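import Cfsg.Agent.FourGroupGW.Mixed.Elementary

/-!
Four-group theorem, piece F: a prime of kind (s) whose centre of `O_p(O)` meets the fixed points of `u`.
-/

set_option autoImplicit false
set_option linter.unusedSectionVars false
set_option linter.style.haveILetI false

namespace Cfsg.Lib.GW.Mixed

open Subgroup

universe u

variable {G : Type u} [Group G] [Finite G] {F : Frame G} {p : ℕ} {S : Subgroup G}

theorem centralizer_ne_top (hm : Minimal G) {b : G} (hb : b ≠ 1) : centralizer ({b} : Set G) ≠ ⊤ := by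
  intro h
  haveI := hm.simple
  have ha : b ∈ center G := mem_center_iff.2 fun g =>
    mem_centralizer_singleton_iff.1 (h ▸ mem_top g : g ∈ centralizer ({b} : Set G))
  rcases (inferInstance : (center G).Normal).eq_bot_or_eq_top with hb' | ht
  · exact hb (mem_bot.1 (hb' ▸ ha))
  · exact hm.nonab ⟨⟨fun x y => (mem_center_iff.1 (ht ▸ mem_top x : x ∈ center G) y).symm⟩⟩

/-- an element whose square centralises `x` centralises it when its order is odd -/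
theorem commute_of_sq {g x : G} (hg : Odd (orderOf g)) (h : Commute (g * g) x) : Commute g x := by
  obtain ⟨n, hn⟩ := hg
  have h1 : g = (g * g) ^ (n + 1) := by
    rw [← pow_two, ← pow_mul, show 2 * (n + 1) = orderOf g + 1 by omega, pow_succ, pow_orderOf_eq_one, one_mul]
  rw [h1]
  exact h.pow_left _

/-- an inverted element conjugating a fixed element to a fixed element centralises it -/
theorem commute_of_conj_fixed {y r : G} (hy : y ∈ F.O) (hyu : F.u * y * F.u⁻¹ = y⁻¹)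
    (hru : F.u * r * F.u⁻¹ = r) (h : F.u * (y * r * y⁻¹) * F.u⁻¹ = y * r * y⁻¹) : Commute y r := by
  refine commute_of_sq (Frame.odd_orderOf F.odd_card_O hy) ?_
  have h1 : y⁻¹ * r * y = y * r * y⁻¹ := by
    rw [← h]
    calc y⁻¹ * r * y = (F.u * y * F.u⁻¹) * (F.u * r * F.u⁻¹) * (F.u * y * F.u⁻¹)⁻¹ := by
          rw [hyu, hru, inv_inv]
      _ = _ := by group
  calc y * y * r = y * (y * r * y⁻¹) * y := by group
    _ = y * (y⁻¹ * r * y) * y := by rw [h1]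
    _ = r * (y * y) := by group

/-- no fixed central element of `O_p(O)` commutes with an inverted `p'`-element moving it -/
theorem not_commute_fixed (hm : Minimal G) (htop : F.TopSpec) (hspec : F.LocalSpec p S)
    (d : Five p F.u F.O S (F.R p)) {y : G} (hy : y ∈ F.O) (hyu : F.u * y * F.u⁻¹ = y⁻¹)
    (hyp : ¬ p ∣ orderOf y) (hmove : ∃ r ∈ F.R p, y * r ≠ r * y)
    {b : G} (hb : b ∈ F.R p) (hbu : F.u * b * F.u⁻¹ = b) (hb1 : b ≠ 1) (hbc : ∀ r ∈ F.R p, b * r = r * b) :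
    y * b ≠ b * y := by
  intro hyb
  obtain ⟨r₀, hr₀, hne⟩ := hmove
  haveI : Fact p.Prime := ⟨d.hp⟩
  set H := centralizer ({b} : Set G) with hH
  have hRp : IsPGroup p (F.R p) := d.hS.to_le d.hRS
  have hfus : F.Fusing H := by
    have h := hspec.fusing_centralizer (zpowers b)
      (zpowers_le.2 (F.mem_W.2 ⟨F.R_le p hb, (mul_inv_eq_iff_eq_mul.1 hbu).symm⟩))
      (hRp.to_le (zpowers_le.2 hb)) (by rwa [Ne, zpowers_eq_bot])
    rwa [zpowers_eq_closure, centralizer_closure] at h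
  obtain ⟨T, Q, hT⟩ := htop H (centralizer_ne_top hm hb1) hfus
  have hRH : F.R p ≤ H := fun r hr => mem_centralizer_singleton_iff.2 (hbc r hr).symm
  have hyH : y ∈ H := mem_centralizer_singleton_iff.2 hyb
  have hmem : ∀ x ∈ F.R p, x ∈ H ⊓ F.O := fun x hx => ⟨hRH hx, F.R_le p hx⟩
  haveI : ((Core H).subgroupOf H).Normal := normal_subgroupOf_of_le_normalizer (le_normalizer_core H)
  set π := QuotientGroup.mk' ((Core H).subgroupOf H) with hπ
  have hker : ∀ x : H, π x = 1 ↔ (x : G) ∈ Core H := fun x => by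
    rw [hπ, QuotientGroup.mk'_apply, QuotientGroup.eq_one_iff, mem_subgroupOf]
  set Y : H := ⟨y, hyH⟩
  -- `y` centralises `R` modulo the core
  have hinv : ∀ i ∈ F.R p, ∀ hi : i ∈ H, F.u * i * F.u⁻¹ = i⁻¹ → Commute (π Y) (π ⟨i, hi⟩) := by
    intro i hiR hi hiu
    rw [commute_iff_eq, ← mul_inv_eq_iff_eq_mul, ← mul_inv_eq_one, ← map_mul, ← map_inv, ← map_mul, ← map_inv,
      ← map_mul, hker]
    exact hT.inverted_comm y ⟨hyH, hy⟩ i (hmem i hiR) hyu hiu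
  have hfix : ∀ w ∈ F.R p, ∀ hw : w ∈ H, F.u * w * F.u⁻¹ = w → Commute (π Y) (π ⟨w, hw⟩) := by
    intro w hwR hw hwu
    set W' : H := ⟨w, hw⟩
    set X : H := W' * Y * W'⁻¹ with hX
    have hXu : F.u * (X : G) * F.u⁻¹ = (X : G)⁻¹ := by
      show F.u * (w * y * w⁻¹) * F.u⁻¹ = (w * y * w⁻¹)⁻¹
      calc F.u * (w * y * w⁻¹) * F.u⁻¹ = (F.u * w * F.u⁻¹) * (F.u * y * F.u⁻¹) * (F.u * w * F.u⁻¹)⁻¹ := by group
        _ = _ := by rw [hwu, hyu]; group
    have hXY : Commute (π X) (π Y) := by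
      rw [commute_iff_eq, ← mul_inv_eq_iff_eq_mul, ← mul_inv_eq_one, ← map_mul, ← map_inv, ← map_mul, ← map_inv,
        ← map_mul, hker]
      exact hT.inverted_comm (X : G) ⟨X.2, F.O.mul_mem (F.O.mul_mem (F.R_le p hwR) hy) (F.O.inv_mem (F.R_le p hwR))⟩
        y ⟨hyH, hy⟩ hXu hyu
    have hYn : (π Y) ^ orderOf y = 1 := by
      rw [← map_pow, show Y ^ orderOf y = 1 from Subtype.ext (pow_orderOf_eq_one y), map_one]
    have hXn : (π X) ^ orderOf y = 1 := by rw [hX, map_mul, map_mul, map_inv, conj_pow, hYn]; group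
    have h1 : (π X * (π Y)⁻¹) ^ orderOf y = 1 := by
      rw [hXY.inv_right.mul_pow, hXn, inv_pow, hYn, inv_one, mul_one]
    have hc : (X : G) * y⁻¹ ∈ F.R p := by
      have h2 := (F.R p).mul_mem hwR ((mem_normalizer_iff.1 (d.hOR hy) _).1 ((F.R p).inv_mem hwR))
      rwa [show w * (y * w⁻¹ * y⁻¹) = (X : G) * y⁻¹ by show _ = w * y * w⁻¹ * y⁻¹; group] at h2
    obtain ⟨n, hn⟩ := hRp ⟨_, hc⟩
    have h3 : (π X * (π Y)⁻¹) ^ p ^ n = 1 := by
      rw [← map_inv, ← map_mul, ← map_pow,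
        show (X * Y⁻¹) ^ p ^ n = 1 from Subtype.ext (congrArg Subtype.val hn :), map_one]
    have h4 := pow_gcd_eq_one.2 ⟨h1, h3⟩
    rw [Nat.Coprime.pow_right n ((d.hp.coprime_iff_not_dvd.2 hyp).symm), pow_one] at h4
    rw [mul_inv_eq_one, hX, map_mul, map_mul, map_inv, mul_inv_eq_iff_eq_mul] at h4
    exact h4.symm
  -- the commutators are fixed by `u`
  set P : Subgroup G := F.R p ⊓ Core H
  have hPfix : ∀ x ∈ P, F.u * x * F.u⁻¹ = x := by
    have hn : F.U ≤ normalizer (P : Set G) := fun x hx => inf_normalizer_le_normalizer_inf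
      ⟨C_le_normalizer_R p (F.U_le_C hx), le_normalizer_core H (hfus.1 hx)⟩
    have h := hspec.core_fixed H (centralizer_ne_top hm hb1) hfus P (hRp.to_le inf_le_left) inf_le_right hn
    exact fun x hx => mul_inv_eq_iff_eq_mul.2 (mem_centralizer_iff.1 (h hx) F.u F.u_mem_U)
  have hcom : ∀ r ∈ F.R p, y * r * y⁻¹ * r⁻¹ ∈ P := by
    intro r hr
    obtain ⟨w, hw, i, hi, hwu, hiu, rfl⟩ :=
      Invol.decomp F.u_sq (F.odd_card_O.of_dvd_nat (card_dvd_of_le (F.R_le p))) d.huR hr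
    refine ⟨(F.R p).mul_mem ((mem_normalizer_iff.1 (d.hOR hy) _).1 hr) ((F.R p).inv_mem hr), ?_⟩
    have h5 := (hfix w hw (hRH hw) (mul_inv_eq_iff_eq_mul.2 hwu)).mul_right (hinv i hi (hRH hi) hiu)
    rw [commute_iff_eq, ← mul_inv_eq_iff_eq_mul, ← mul_inv_eq_one, ← map_mul, ← map_mul, ← map_inv, ← map_mul,
      ← map_inv, ← map_mul, hker] at h5
    exact h5
  have hcy : ∀ x ∈ P, Commute y x := fun x hx => by
    refine commute_of_conj_fixed hy hyu (hPfix x hx) ?_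
    have h6 := hPfix _ (P.mul_mem (hcom x hx.1) hx)
    rwa [inv_mul_cancel_right] at h6
  set q := y * r₀ * y⁻¹ * r₀⁻¹ with hq
  have hqy : Commute y q := hcy q (hcom r₀ hr₀)
  have hpow : ∀ n : ℕ, y ^ n * r₀ * (y ^ n)⁻¹ = q ^ n * r₀ := by
    intro n
    induction n with
    | zero => simp
    | succ n ih =>
      calc y ^ (n + 1) * r₀ * (y ^ (n + 1))⁻¹ = y * (y ^ n * r₀ * (y ^ n)⁻¹) * y⁻¹ := by rw [pow_succ']; group
        _ = (y * q ^ n * y⁻¹) * (y * r₀ * y⁻¹) := by rw [ih]; group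
        _ = q ^ n * (q * r₀) := by rw [(hqy.pow_right n).eq, mul_inv_cancel_right, hq, inv_mul_cancel_right]
        _ = _ := by rw [← mul_assoc, ← pow_succ]
  have hqn := hpow (orderOf y)
  rw [pow_orderOf_eq_one, one_mul, inv_one, mul_one] at hqn
  obtain ⟨n, hn⟩ := hRp ⟨q, (hcom r₀ hr₀).1⟩
  have h7 := pow_gcd_eq_one.2 ⟨(mul_eq_right.1 hqn.symm : q ^ orderOf y = 1), (congrArg Subtype.val hn : _)⟩
  rw [Nat.Coprime.pow_right n ((d.hp.coprime_iff_not_dvd.2 hyp).symm), pow_one, hq, mul_inv_eq_one,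
    mul_inv_eq_iff_eq_mul] at h7
  exact hne h7

/-- the mixed case -/
theorem mixed_false (hm : Minimal G) (htop : F.TopSpec) (hF0 : 5 / 7 < F.F0) (hloc : F.Local)
    (hC : IsCoatom F.C) (hk : F.KindMixed p) : False := by
  classical
  obtain ⟨⟨hp, y, hy, hyu, hyp, hmove⟩, a, ha, hao, hau, hac⟩ := hk
  haveI : Fact p.Prime := ⟨hp⟩
  have ha1 : a ≠ 1 := fun h => hp.one_lt.ne (by rw [← hao, h, orderOf_one])
  obtain ⟨r₁, hr₁, hr₁u⟩ : ∃ r ∈ F.R p, F.u * r * F.u⁻¹ ≠ r := by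
    by_contra hno
    push Not at hno
    obtain ⟨r, hr, hne⟩ := hmove
    exact hne (commute_of_conj_fixed hy hyu (hno r hr)
      (hno _ ((mem_normalizer_iff.1 (O_le_normalizer_R p hy) r).1 hr))).eq
  obtain ⟨S, hspec, d⟩ := exists_five hloc hC hp hr₁ hr₁u
  -- the elements of order `p` of the centre of `R`
  let V : Subgroup G :=
    { carrier := {x | x ∈ F.R p ∧ (∀ r ∈ F.R p, x * r = r * x) ∧ x ^ p = 1}
      one_mem' := ⟨one_mem _, fun r _ => by simp, one_pow p⟩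
      mul_mem' := fun {x x'} hx hx' => ⟨(F.R p).mul_mem hx.1 hx'.1,
        fun r hr => (Commute.mul_left (hx.2.1 r hr) (hx'.2.1 r hr) :),
        by rw [Commute.mul_pow (hx.2.1 x' hx'.1), hx.2.2, hx'.2.2, one_mul]⟩
      inv_mem' := fun {x} hx => ⟨(F.R p).inv_mem hx.1, fun r hr => (Commute.inv_left (hx.2.1 r hr) :),
        by rw [inv_pow, hx.2.2, inv_one]⟩ }
  have hVR : V ≤ F.R p := fun x hx => hx.1
  have hVS : V ≤ S := hVR.trans d.hRS
  have hVO : V ≤ F.O := hVS.trans d.hSO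
  have hVp : ∀ x ∈ V, x ^ p = 1 := fun x hx => hx.2.2
  have hVc : ∀ x ∈ V, ∀ r ∈ F.R p, x * r = r * x := fun x hx => hx.2.1
  have haV : a ∈ V := ⟨ha, hac, by rw [← hao, pow_orderOf_eq_one]⟩
  have hVn : ∀ g ∈ normalizer (F.R p : Set G), ∀ x ∈ V, g * x * g⁻¹ ∈ V := by
    intro g hg x hx
    refine ⟨(mem_normalizer_iff.1 hg x).1 hx.1, fun r hr => ?_, by rw [conj_pow, hx.2.2]; group⟩
    have h1 := hx.2.1 _ ((mem_normalizer_iff''.1 hg r).1 hr)
    calc g * x * g⁻¹ * r = g * (x * (g⁻¹ * r * g)) * g⁻¹ := by group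
      _ = g * ((g⁻¹ * r * g) * x) * g⁻¹ := by rw [h1]
      _ = r * (g * x * g⁻¹) := by group
  have hVO' : ∀ g ∈ F.O, ∀ x ∈ V, g * x * g⁻¹ ∈ V := fun g hg => hVn g (d.hOR hg)
  have hVu : ∀ x ∈ V, x⁻¹ * (F.u * x * F.u⁻¹) ∈ V := fun x hx => V.mul_mem (V.inv_mem hx) (hVn F.u d.huR x hx)
  have hnc : ∀ b ∈ V, F.u * b * F.u⁻¹ = b → y * b = b * y → b = 1 := by
    intro b hb hbu hyb
    by_contra hb1
    exact not_commute_fixed hm htop hspec d hy hyu hyp hmove (hVR hb) hbu hb1 (hVc b hb) hyb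
  obtain ⟨z, hzV, hzu, hz1⟩ : ∃ z ∈ V, F.u * z * F.u⁻¹ = z⁻¹ ∧ z ≠ 1 := by
    refine ⟨(y * a * y⁻¹)⁻¹ * (F.u * (y * a * y⁻¹) * F.u⁻¹), hVu _ (hVO' y hy a haV),
      Invol.inverted_div F.u_sq _, fun h => ha1 (hnc a haV hau ?_)⟩
    rw [inv_mul_eq_one] at h
    exact (commute_of_conj_fixed hy hyu hau h.symm).eq
  have hzp : z ^ p = 1 := hVp z hzV
  have haU : F.u * a = a * F.u := mul_inv_eq_iff_eq_mul.1 hau
  have hinvV : ∀ x ∈ V, F.u * x * F.u⁻¹ = x⁻¹ → x ∈ zpowers z := fun x hx hxu =>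
    d.mem_zpowers (d.hRS ha) haU ha1 (hVS hzV) (hac z (hVR hzV)) hzu hzp hz1 (hVS hx) (hac x (hVR hx)) hxu
      (hVp x hx)
  -- the fixed points of `u` on `V`
  set Vf : Subgroup G := V ⊓ centralizer ({F.u} : Set G) with hVf
  have hVfu : ∀ x, x ∈ Vf ↔ x ∈ V ∧ F.u * x * F.u⁻¹ = x := fun x => by
    rw [hVf, mem_inf, mem_centralizer_singleton_iff, mul_inv_eq_iff_eq_mul]
    exact and_congr_right fun _ => eq_comm
  have hVfa : zpowers a = Vf := by
    refine eq_of_le_of_card_ge (zpowers_le.2 ((hVfu a).2 ⟨haV, hau⟩)) ?_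
    rw [Nat.card_zpowers, hao]
    have hzc : Nat.card (zpowers z) = p := by rw [Nat.card_zpowers, orderOf_eq_prime hzp hz1]
    rw [← hzc]
    refine Nat.card_le_card_of_injective (fun b : Vf => (⟨(y * b * y⁻¹)⁻¹ * (F.u * (y * b * y⁻¹) * F.u⁻¹),
      hinvV _ (hVu _ (hVO' y hy b ((hVfu b).1 b.2).1)) (Invol.inverted_div F.u_sq _)⟩ : zpowers z)) ?_
    rintro ⟨b, hb⟩ ⟨b', hb'⟩ h
    have h1 : (y * b * y⁻¹)⁻¹ * (F.u * (y * b * y⁻¹) * F.u⁻¹) =
        (y * b' * y⁻¹)⁻¹ * (F.u * (y * b' * y⁻¹) * F.u⁻¹) := congrArg Subtype.val h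
    have hbb : ∀ c, F.u * c * F.u⁻¹ = c → F.u * (y * c * y⁻¹) * F.u⁻¹ = y⁻¹ * c * y := by
      intro c hc
      calc F.u * (y * c * y⁻¹) * F.u⁻¹ = (F.u * y * F.u⁻¹) * (F.u * c * F.u⁻¹) * (F.u * y * F.u⁻¹)⁻¹ := by group
        _ = _ := by rw [hyu, hc, inv_inv]
    rw [hbb b ((hVfu b).1 hb).2, hbb b' ((hVfu b').1 hb').2] at h1
    have h2 : Commute (y * y) (b * b'⁻¹) := by
      have h3 : b⁻¹ * (y * y)⁻¹ * b = b'⁻¹ * (y * y)⁻¹ * b' := by
        calc b⁻¹ * (y * y)⁻¹ * b = y⁻¹ * ((y * b * y⁻¹)⁻¹ * (y⁻¹ * b * y)) * y⁻¹ := by group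
          _ = y⁻¹ * ((y * b' * y⁻¹)⁻¹ * (y⁻¹ * b' * y)) * y⁻¹ := by rw [h1]
          _ = _ := by group
      calc y * y * (b * b'⁻¹) = y * y * b * (b⁻¹ * (y * y)⁻¹ * b) * (b'⁻¹ * (y * y)⁻¹ * b')⁻¹ * b'⁻¹ := by
            rw [h3]; group
        _ = b * b'⁻¹ * (y * y) := by simp [mul_assoc]
    have h4 : b * b'⁻¹ ∈ Vf := Vf.mul_mem hb (Vf.inv_mem hb')
    exact Subtype.ext (mul_inv_eq_one.1
      (hnc _ ((hVfu _).1 h4).1 ((hVfu _).1 h4).2 (commute_of_sq (Frame.odd_orderOf F.odd_card_O hy) h2).eq))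
  -- every element of `V` is `a ^ i * z ^ j`
  have hVgen : ∀ x ∈ V, ∃ i j : ℤ, x = a ^ i * z ^ j := by
    intro x hx
    obtain ⟨w, hw, i, hi, hwu, hiu, rfl⟩ :=
      Invol.decomp F.u_sq (F.odd_card_O.of_dvd_nat (card_dvd_of_le hVO))
        (mem_normalizer_fintype fun x hx => hVn F.u d.huR x hx) hx
    obtain ⟨k, rfl⟩ := mem_zpowers_iff.1 (hVfa ▸ (hVfu w).2 ⟨hw, mul_inv_eq_iff_eq_mul.2 hwu⟩ : w ∈ zpowers a)
    obtain ⟨l, rfl⟩ := mem_zpowers_iff.1 (hinvV i hi hiu)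
    exact ⟨k, l, rfl⟩
  have cfg : Cfg F p S a z :=
    ⟨hp, d.hp2, d.hSO, d.hS, hspec, d.hRS ha, hau, ha1, hVS hzV, hzu, hzp, hz1, hac z (hVR hzV)⟩
  obtain ⟨T, Q, hT, hpT, hQ, -, hX, hid⟩ := cfg.count hm htop
  -- the orbit of `a`
  set Δ := orb F.O a with hΔ
  have hΔV : ∀ x ∈ Δ, x ∈ V := by
    rintro _ ⟨g, hg, rfl⟩
    exact hVO' g hg a haV
  have hfixΔ : ∀ x, x ∈ orb F.W a ↔ x ∈ Δ ∧ F.u * x * F.u⁻¹ = x := by
    refine fun x => ⟨?_, fun h => fixed_of_orbit cfg.a_W h.1 h.2⟩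
    rintro ⟨w, hw, rfl⟩
    refine ⟨⟨w, F.W_le hw, rfl⟩, ?_⟩
    calc F.u * (w * a * w⁻¹) * F.u⁻¹ = (F.u * w * F.u⁻¹) * (F.u * a * F.u⁻¹) * (F.u * w * F.u⁻¹)⁻¹ := by group
      _ = _ := by rw [hau, mul_inv_eq_iff_eq_mul.2 (F.mem_W.1 hw).2.symm]
  have hne1 : ∀ x ∈ Δ, x ≠ 1 := by
    rintro _ ⟨g, -, rfl⟩ h
    refine ha1 ?_
    calc a = g⁻¹ * (g * a * g⁻¹) * g := by group
      _ = 1 := by rw [show g * a * g⁻¹ = 1 from h]; group
  have hnoinv : ∀ x ∈ Δ, F.u * x * F.u⁻¹ ≠ x⁻¹ := by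
    rintro _ ⟨g, hg, rfl⟩ hxu
    obtain ⟨w, hw, i, hi, hwu, hiu, rfl⟩ :=
      Invol.decomp F.u_sq F.odd_card_O (F.U_le_normalizer_O F.u_mem_U) hg
    set x := i * a * i⁻¹ with hx
    have hxu' : i⁻¹ * a * i = x⁻¹ := by
      have h1 : F.u * (w * i * a * (w * i)⁻¹) * F.u⁻¹ = w * (i⁻¹ * a * i) * w⁻¹ := by
        calc F.u * (w * i * a * (w * i)⁻¹) * F.u⁻¹ = (F.u * w * F.u⁻¹) * ((F.u * i * F.u⁻¹) * (F.u * a * F.u⁻¹) *
              (F.u * i * F.u⁻¹)⁻¹) * (F.u * w * F.u⁻¹)⁻¹ := by group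
          _ = _ := by rw [mul_inv_eq_iff_eq_mul.2 hwu, hiu, hau, inv_inv]
      rw [hxu] at h1
      calc i⁻¹ * a * i = w⁻¹ * (w * (i⁻¹ * a * i) * w⁻¹) * w := by group
        _ = x⁻¹ := by rw [← h1, hx]; group
    have h2 : i * i * x⁻¹ * (i * i)⁻¹ = x := by
      rw [← hxu', hx]; group
    have h3 : Commute (i * i * (i * i)) x := by
      have h4 : i * i * x * (i * i)⁻¹ = x⁻¹ := by
        calc i * i * x * (i * i)⁻¹ = (i * i * x⁻¹ * (i * i)⁻¹)⁻¹ := by simp [mul_assoc]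
          _ = _ := by rw [h2]
      refine mul_inv_eq_iff_eq_mul.1 ?_
      calc i * i * (i * i) * x * (i * i * (i * i))⁻¹ = i * i * (i * i * x * (i * i)⁻¹) * (i * i)⁻¹ := by
            simp [mul_assoc]
        _ = x := by rw [h4, h2]
    have h5 : Commute i x := commute_of_sq (Frame.odd_orderOf F.odd_card_O hi)
      (commute_of_sq (Frame.odd_orderOf F.odd_card_O (F.O.mul_mem hi hi)) h3)
    have h6 : x⁻¹ = x := by
      have h7 := ((h5.mul_left h5).inv_right).eq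
      rwa [h7, mul_inv_cancel_right] at h2
    refine ha1 ?_
    have hxO : x ∈ F.O := F.O.mul_mem (F.O.mul_mem hi (d.hSO (d.hRS ha))) (F.O.inv_mem hi)
    have h8 : x = 1 := Frame.eq_one_of_fixed_inverted (s := (1 : G)) (Frame.odd_orderOf F.odd_card_O hxO) (by group)
      (by rw [h6]; group)
    calc a = i⁻¹ * x * i := by rw [hx]; group
      _ = 1 := by rw [h8]; group
  -- the lines meeting the orbit
  set L : Finset (Subgroup G) := (Set.toFinite Δ).toFinset.image zpowers with hL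
  have hmemL : ∀ l, l ∈ L ↔ ∃ x ∈ Δ, zpowers x = l := fun l => by simp [hL]
  have hea : ((Set.toFinite Δ).toFinset.filter fun x => zpowers x = zpowers a).card = (orb F.W a).ncard := by
    rw [Set.ncard_eq_toFinset_card _ (Set.toFinite _)]
    congr 1
    ext x
    simp only [Finset.mem_filter, Set.Finite.mem_toFinset, hfixΔ]
    refine and_congr_right fun hx => ⟨fun h => ((hVfu x).1 (hVfa ▸ h ▸ mem_zpowers x)).2, fun h => ?_⟩
    refine eq_of_le_of_card_ge (zpowers_le.2 (hVfa.symm ▸ (hVfu x).2 ⟨hΔV x hx, h⟩)) ?_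
    rw [Nat.card_zpowers, Nat.card_zpowers, hao, orderOf_eq_prime (hVp x (hΔV x hx)) (hne1 x hx)]
  have hfib : ∀ l ∈ L, ((Set.toFinite Δ).toFinset.filter fun x => zpowers x = l).card = (orb F.W a).ncard := by
    intro l hl
    obtain ⟨_, ⟨g, hg, rfl⟩, rfl⟩ := (hmemL l).1 hl
    rw [← hea]
    refine (Finset.card_nbij' (fun x => g * x * g⁻¹) (fun x => g⁻¹ * x * g) ?_ ?_ ?_ ?_).symm
    · intro x hx
      simp only [Finset.coe_filter, Set.Finite.mem_toFinset, Set.mem_setOf_eq] at hx ⊢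
      obtain ⟨⟨k, hk, rfl⟩, hx⟩ := hx
      refine ⟨⟨g * k, F.O.mul_mem hg hk, by group⟩, ?_⟩
      have := congrArg (Subgroup.map (MulAut.conj g).toMonoidHom) hx
      rwa [MonoidHom.map_zpowers, MonoidHom.map_zpowers] at this
    · intro x hx
      simp only [Finset.coe_filter, Set.Finite.mem_toFinset, Set.mem_setOf_eq] at hx ⊢
      obtain ⟨⟨k, hk, rfl⟩, hx⟩ := hx
      refine ⟨⟨g⁻¹ * k, F.O.mul_mem (F.O.inv_mem hg) hk, by group⟩, ?_⟩
      have := congrArg (Subgroup.map (MulAut.conj g⁻¹).toMonoidHom) hx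
      rw [MonoidHom.map_zpowers, MonoidHom.map_zpowers] at this
      simpa [mul_assoc] using this
    · intro x _; group
    · intro x _; group
  have ho : Δ.ncard = L.card * (orb F.W a).ncard := by
    rw [Set.ncard_eq_toFinset_card _ (Set.toFinite _),
      Finset.card_eq_sum_card_image zpowers, ← hL, Finset.sum_congr rfl hfib, Finset.sum_const, smul_eq_mul]
  have hρ2 : 2 ≤ L.card := by
    refine Finset.one_lt_card.2 ⟨zpowers a, (hmemL _).2 ⟨a, ⟨1, one_mem _, by group⟩, rfl⟩,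
      zpowers (y * a * y⁻¹), (hmemL _).2 ⟨_, ⟨y, hy, rfl⟩, rfl⟩, fun h => ?_⟩
    exact ha1 (hnc a haV hau (commute_of_conj_fixed hy hyu hau
      ((hVfu _).1 (hVfa ▸ h.symm ▸ mem_zpowers (y * a * y⁻¹))).2).eq)
  have hρp : L.card ≤ p := by
    refine le_trans (Finset.card_le_card (t := (Finset.univ : Finset (Fin p)).image
      fun k : Fin p => zpowers (a * z ^ (k : ℕ))) ?_) (Finset.card_image_le.trans (by simp))
    intro l hl
    obtain ⟨x, hx, rfl⟩ := (hmemL l).1 hl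
    obtain ⟨i, j, hij⟩ := hVgen x (hΔV x hx)
    have hai : a ^ i ≠ 1 := fun h => hnoinv x hx (by rw [hij, h, one_mul, Invol.inverted_zpow hzu])
    obtain ⟨k, hk⟩ := mem_zpowers_iff.1 (Invol.mem_zpowers_of_cyclic hp (mem_zpowers a)
      (zpow_mem (mem_zpowers a) i) (hVp a haV) (hVp _ (V.zpow_mem haV i)) hai)
    obtain ⟨m, hm'⟩ : ∃ m : ℕ, z ^ m = z ^ (j * k) := mem_powers_iff_mem_zpowers.2 (mem_zpowers_iff.2 ⟨_, rfl⟩)
    refine Finset.mem_image.2 ⟨⟨m % p, Nat.mod_lt _ hp.pos⟩, Finset.mem_univ _, ?_⟩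
    have hz' : z ^ (m % p) = z ^ (j * k) := by
      rw [← hm', ← orderOf_eq_prime hzp hz1, pow_mod_orderOf]
    have haz : Commute a z := hac z (hVR hzV)
    have hxk : x ^ k = a * z ^ (m % p) := by
      rw [hij, ((haz.zpow_left i).zpow_right j).mul_zpow, hk, ← zpow_mul, hz']
    show zpowers (a * z ^ (m % p)) = zpowers x
    rw [← hxk]
    refine eq_of_le_of_card_ge (zpowers_le.2 (zpow_mem (mem_zpowers x) k)) ?_
    have hxk1 : x ^ k ≠ 1 := fun h => ha1 (by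
      rw [hxk] at h
      refine Frame.eq_one_of_fixed_inverted (Frame.odd_orderOf F.odd_card_O (F.R_le p ha)) hau ?_
      rw [eq_inv_of_mul_eq_one_left h, ← conj_inv, Invol.inverted_pow hzu])
    rw [Nat.card_zpowers, Nat.card_zpowers, orderOf_eq_prime (hVp x (hΔV x hx)) (hne1 x hx),
      orderOf_eq_prime (hVp _ (V.zpow_mem (hΔV x hx) k)) hxk1]
  -- the count
  have hcount := hX (Δ \ orb F.W a)
    (by
      rintro _ ⟨⟨g, -, rfl⟩, -⟩
      exact ⟨g, mem_top _, rfl⟩)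
    (by
      rintro x ⟨hx, hxW⟩
      obtain ⟨i, j, hij⟩ := hVgen x (hΔV x hx)
      refine ⟨i, j, hij, fun h => hxW ((hfixΔ x).2 ⟨hx, ?_⟩)⟩
      rw [hij, h, mul_one, ← conj_zpow, hau])
  rw [Set.ncard_sdiff (fun x hx => ((hfixΔ x).1 hx).1) (Set.toFinite _), ho] at hcount
  have he : 0 < (orb F.W a).ncard :=
    (Set.ncard_pos (Set.toFinite (orb F.W a))).2 ⟨_, 1, one_mem _, rfl⟩
  exact false_lines hF0 he hT hQ hρ2 hρp hpT (by rw [Nat.sub_mul, one_mul]) hcount hid ho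

/-- piece F -/
theorem noMixed (hm : Minimal G) (htop : F.TopSpec) (hchar : F.CharBound) (hloc : F.Local) : F.NoMixed := by
  intro hW hC p
  refine ⟨fun hk => mixed_false hm htop (hchar hW).1 hloc hC hk, ?_⟩
  rintro ⟨hp, -, a, ha, b, hb, hau, hbu, hab⟩
  have hmov : F.u * a * F.u⁻¹ ≠ a := fun h => hab (by
    have h1 : a = 1 := Frame.eq_one_of_fixed_inverted (Frame.odd_orderOf F.odd_card_O (F.R_le p ha)) h hau
    rw [h1, one_mul, mul_one])
  obtain ⟨S, hspec, d⟩ := exists_five hloc hC hp ha hmov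
  exact hab (d.comm_inverted
    (fun P h₁ h₂ h₃ _ => no_fixed hm htop (hchar hW).1 hspec d ha hb hau hbu hab P h₁ h₂ h₃) a ha b hb hau hbu)

end Cfsg.Lib.GW.Mixed
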