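import Mathlib

/-!
Four-group theorem, the counting lemma: spreading over cosets, orbit sizes and the two numerical cases.
-/

set_option autoImplicit false
set_option linter.unusedSectionVars false

namespace Cfsg.Lib.GW.Mixed

open Subgroup

variable {G : Type*} [Group G] [Finite G]

/-- The conjugates of `a` under `K`. -/
def orb (K : Subgroup G) (a : G) : Set G := (fun k => k * a * k⁻¹) '' (K : Set G)

theorem conj_eq_iff {a x y : G} :
    x * a * x⁻¹ = y * a * y⁻¹ ↔ x⁻¹ * y ∈ centralizer ({a} : Set G) := by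
  rw [mem_centralizer_singleton_iff]
  constructor
  · intro h
    calc x⁻¹ * y * a = x⁻¹ * (y * a * y⁻¹) * y := by group
      _ = x⁻¹ * (x * a * x⁻¹) * y := by rw [h]
      _ = a * (x⁻¹ * y) := by group
  · intro h
    calc x * a * x⁻¹ = x * (a * (x⁻¹ * y)) * y⁻¹ := by group
      _ = x * (x⁻¹ * y * a) * y⁻¹ := by rw [h]
      _ = y * a * y⁻¹ := by group

/-- orbit and stabiliser -/
theorem card_orb (K : Subgroup G) (a : G) :
    (orb K a).ncard * Nat.card ↥(K ⊓ centralizer ({a} : Set G)) = Nat.card K := by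
  classical
  set L := (centralizer ({a} : Set G)).subgroupOf K with hL
  let f : ↥K ⧸ L → orb K a := Quotient.lift
    (fun k : K => (⟨(k : G) * a * (k : G)⁻¹, mem_image_of_mem' k⟩ : orb K a)) (fun x y hxy => by
      refine Subtype.ext (conj_eq_iff.2 ?_)
      have h1 := QuotientGroup.leftRel_apply.1 hxy
      exact mem_subgroupOf.1 h1)
  have hf : Function.Bijective f := by
    constructor
    · intro x y
      induction x using Quotient.inductionOn with | _ x =>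
      induction y using Quotient.inductionOn with | _ y =>
      intro h
      refine Quotient.sound (QuotientGroup.leftRel_apply.2 ?_)
      exact mem_subgroupOf.2 (conj_eq_iff.1 (congrArg Subtype.val h))
    · rintro ⟨_, k, hk, rfl⟩
      exact ⟨Quotient.mk _ ⟨k, hk⟩, rfl⟩
  have h1 := Subgroup.card_eq_card_quotient_mul_card_subgroup L
  rw [Nat.card_congr (Equiv.ofBijective f hf), Nat.card_coe_set_eq] at h1
  rw [h1, hL, ← inf_subgroupOf_right, Nat.card_congr (subgroupOfEquivOfLe inf_le_right).toEquiv, inf_comm]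
where
  mem_image_of_mem' {K : Subgroup G} {a : G} (k : K) : (k : G) * a * (k : G)⁻¹ ∈ orb K a := ⟨k, k.2, rfl⟩

/-- a set no two of whose elements are conjugate outside `N` spreads over the cosets of `N` -/
theorem spread {H N : Subgroup G} {X : Set G} {a : G}
    (key : ∀ x ∈ X, ∀ h ∈ H, h * x * h⁻¹ ∈ X → h ∈ N) (hX : ∀ x ∈ X, x ∈ orb (⊤ : Subgroup G) a) :
    X.ncard * N.relIndex H ≤ (orb (⊤ : Subgroup G) a).ncard := by
  classical
  let f : X × (↥H ⧸ N.subgroupOf H) → orb (⊤ : Subgroup G) a := fun q =>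
    ⟨(q.2.out : G) * q.1 * (q.2.out : G)⁻¹, by
      obtain ⟨g, -, hg⟩ := hX q.1 q.1.2
      exact ⟨q.2.out * g, mem_top _, by rw [← hg]; group⟩⟩
  have hf : Function.Injective f := by
    rintro ⟨x, q⟩ ⟨y, r⟩ h
    have h' : (q.out : G) * x * (q.out : G)⁻¹ = (r.out : G) * y * (r.out : G)⁻¹ := congrArg Subtype.val h
    have hy : ((r.out : G)⁻¹ * (q.out : G)) * x * ((r.out : G)⁻¹ * (q.out : G))⁻¹ = y := by
      calc ((r.out : G)⁻¹ * (q.out : G)) * x * ((r.out : G)⁻¹ * (q.out : G))⁻¹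
          = (r.out : G)⁻¹ * ((q.out : G) * x * (q.out : G)⁻¹) * r.out := by group
        _ = (r.out : G)⁻¹ * ((r.out : G) * y * (r.out : G)⁻¹) * r.out := by rw [h']
        _ = y := by group
    have hN := key x x.2 _ (H.mul_mem (H.inv_mem r.out.2) q.out.2) (by rw [hy]; exact y.2)
    have hqr : r = q := by
      rw [← r.out_eq', ← q.out_eq']
      exact QuotientGroup.eq.2 (mem_subgroupOf.2 hN)
    subst hqr
    refine Prod.ext (Subtype.ext ?_) rfl
    rw [← hy]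
    group
  have h1 := Nat.card_le_card_of_injective f hf
  rw [Nat.card_prod, Nat.card_coe_set_eq, Nat.card_coe_set_eq] at h1
  exact h1

/-- the inequality coming out of the count -/
theorem bound {F0 : ℚ} {n Q T N o e ρ : ℕ} (hF : 5 / 7 < F0) (hn : 0 < n) (hQ : 0 < Q) (he : 0 < e)
    (hle : n * Q ≤ N) (hN : (N : ℚ) * F0 * Q * e ^ 2 = 8 * T ^ 2 * o ^ 3) (ho : o = ρ * e) :
    5 * n * Q ^ 2 < 56 * T ^ 2 * ρ ^ 3 * e := by
  have heq : (0 : ℚ) < e := by exact_mod_cast he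
  have h1 : (N : ℚ) * F0 * Q = 8 * T ^ 2 * ρ ^ 3 * e := by
    rw [ho] at hN
    push_cast at hN
    have h2 : ((N : ℚ) * F0 * Q - 8 * T ^ 2 * ρ ^ 3 * e) * e ^ 2 = 0 := by linear_combination hN
    rcases mul_eq_zero.1 h2 with h | h
    · linarith
    · exact absurd h (by positivity)
  have hQ' : (0 : ℚ) < Q := by exact_mod_cast hQ
  have hn' : (0 : ℚ) < n := by exact_mod_cast hn
  have hF0 : (0 : ℚ) < F0 := by linarith
  have h3 : ((n * Q : ℕ) : ℚ) ≤ N := by exact_mod_cast hle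
  push_cast at h3
  have h4 : (5 : ℚ) * n * Q ^ 2 < 56 * T ^ 2 * ρ ^ 3 * e := by
    have h5 : (n : ℚ) * Q * F0 * Q ≤ N * F0 * Q := by gcongr
    have h6 : (n : ℚ) * Q * (5 / 7) * Q < n * Q * F0 * Q := by gcongr
    nlinarith
  exact_mod_cast h4

theorem six_sq_le {T Q : ℕ} (hT : 3 ≤ T) (hQ : (4 * T - 1) * (2 * T - 1) ≤ Q) : 6 * T ^ 2 ≤ Q := by
  refine le_trans ?_ hQ
  obtain ⟨s, rfl⟩ : ∃ s, T = s + 3 := ⟨T - 3, by omega⟩
  rw [show 4 * (s + 3) - 1 = 4 * s + 11 by omega, show 2 * (s + 3) - 1 = 2 * s + 5 by omega]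
  nlinarith

/-- at most `p` lines -/
theorem false_lines {F0 : ℚ} {p n Q T N o e ρ : ℕ} (hF : 5 / 7 < F0) (he : 0 < e) (hT : 3 ≤ T)
    (hQ : (4 * T - 1) * (2 * T - 1) ≤ Q) (hρ2 : 2 ≤ ρ) (hρp : ρ ≤ p) (hpT : p ≤ T) (hn : (ρ - 1) * e ≤ n)
    (hle : n * Q ≤ N) (hN : (N : ℚ) * F0 * Q * e ^ 2 = 8 * T ^ 2 * o ^ 3) (ho : o = ρ * e) : False := by
  have h6 := six_sq_le hT hQ
  obtain ⟨r, rfl⟩ : ∃ r, ρ = r + 2 := ⟨ρ - 2, by omega⟩
  have hn0 : 0 < n := lt_of_lt_of_le (Nat.mul_pos (by omega) he) hn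
  have h := bound hF hn0 (by nlinarith) he hle hN ho
  have h1 : 5 * ((r + 1) * e) * (6 * T ^ 2) ^ 2 ≤ 5 * n * Q ^ 2 := by
    gcongr
    simpa using hn
  have h2 : 56 * T ^ 2 * (r + 2) ^ 3 * e ≤ 56 * T ^ 2 * ((r + 2) * T ^ 2) * e := by
    gcongr
    rw [pow_succ, mul_comm]
    exact Nat.mul_le_mul_left _ (Nat.pow_le_pow_left (by omega) 2)
  have h3 := lt_of_lt_of_le (lt_of_le_of_lt h1 h) h2
  have h4 : 180 * (r + 1) * (T ^ 4 * e) < 56 * (r + 2) * (T ^ 4 * e) := by linarith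
  have h5 := Nat.lt_of_mul_lt_mul_right h4
  omega

/-- a plane of fixed elements -/
theorem false_plane {F0 : ℚ} {p n Q T N o e : ℕ} (hF : 5 / 7 < F0) (he : 0 < e) (hT : 3 ≤ T)
    (hQ : (4 * T - 1) * (2 * T - 1) ≤ Q) (hp : 3 ≤ p) (hep : e ≤ p ^ 2) (hpT : p ^ 2 ≤ T) (hn : p - 1 ≤ n)
    (hle : n * Q ≤ N) (hN : (N : ℚ) * F0 * Q * e ^ 2 = 8 * T ^ 2 * o ^ 3) (ho : o = p * e) : False := by
  have h6 := six_sq_le hT hQ
  obtain ⟨r, rfl⟩ : ∃ r, p = r + 3 := ⟨p - 3, by omega⟩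
  have h := bound hF (by omega) (by nlinarith) he hle hN ho
  have h1 : 5 * (r + 2) * (6 * T ^ 2) ^ 2 ≤ 5 * n * Q ^ 2 := by
    gcongr
    omega
  have h2 : 56 * T ^ 2 * (r + 3) ^ 3 * e ≤ 56 * T ^ 2 * ((r + 3) * T ^ 2) := by
    calc 56 * T ^ 2 * (r + 3) ^ 3 * e ≤ 56 * T ^ 2 * (r + 3) ^ 3 * (r + 3) ^ 2 := by gcongr
      _ = 56 * T ^ 2 * ((r + 3) * ((r + 3) ^ 2) ^ 2) := by ring
      _ ≤ _ := by gcongr
  have h3 := lt_of_lt_of_le (lt_of_le_of_lt h1 h) h2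
  have h4 : 180 * (r + 2) * T ^ 4 < 56 * (r + 3) * T ^ 4 := by linarith
  have h5 := Nat.lt_of_mul_lt_mul_right h4
  omega

end Cfsg.Lib.GW.Mixed
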