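import Cfsg.Agent.RankOne.StabOrder
import Mathlib.GroupTheory.SpecificGroups.Cyclic

/-!
An involution normalising a subgroup of odd order: fixed and inverted elements.
-/

set_option autoImplicit false
set_option linter.unusedSectionVars false

namespace Cfsg.Lib.GW.Mixed.Invol

open Subgroup

variable {G : Type*} [Group G] [Finite G] {u : G}

theorem inv_u (hu : u * u = 1) : u⁻¹ = u := inv_eq_of_mul_eq_one_right hu

theorem conj_u_u (hu : u * u = 1) (x : G) : u * (u * x * u⁻¹) * u⁻¹ = x := by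
  calc u * (u * x * u⁻¹) * u⁻¹ = (u * u) * x * (u * u)⁻¹ := by group
    _ = x := by rw [hu, one_mul, inv_one, mul_one]

/-- the commutator with `u` is inverted -/
theorem inverted_div (hu : u * u = 1) (x : G) :
    u * (x⁻¹ * (u * x * u⁻¹)) * u⁻¹ = (x⁻¹ * (u * x * u⁻¹))⁻¹ := by
  calc u * (x⁻¹ * (u * x * u⁻¹)) * u⁻¹ = (u * x⁻¹ * u⁻¹) * (u * (u * x * u⁻¹) * u⁻¹) := by group
    _ = _ := by rw [conj_u_u hu]; group

theorem inverted_pow {x : G} (hx : u * x * u⁻¹ = x⁻¹) (n : ℕ) : u * x ^ n * u⁻¹ = (x ^ n)⁻¹ := by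
  rw [← conj_pow, hx, inv_pow]

theorem inverted_inv {x : G} (hx : u * x * u⁻¹ = x⁻¹) : u * x⁻¹ * u⁻¹ = x⁻¹⁻¹ := by
  rw [inv_inv]
  have h := congrArg (·⁻¹) hx
  simpa [mul_assoc] using h

theorem inverted_zpow {x : G} (hx : u * x * u⁻¹ = x⁻¹) (n : ℤ) : u * x ^ n * u⁻¹ = (x ^ n)⁻¹ := by
  rw [← conj_zpow, hx, inv_zpow]

/-- an element of odd order fixed and inverted is trivial -/
theorem eq_one_of_inverted_fixed {x : G} (ho : Odd (orderOf x)) (hx : u * x * u⁻¹ = x⁻¹) (hc : u * x = x * u) :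
    x = 1 := by
  have h : x * x = 1 := by
    rw [hc, mul_inv_cancel_right] at hx
    nth_rw 1 [hx]
    rw [inv_mul_cancel]
  obtain ⟨k, hk⟩ := ho
  have h1 := pow_orderOf_eq_one x
  rwa [hk, pow_succ, pow_mul, pow_two, h, one_pow, one_mul] at h1

/-- every element of a subgroup of odd order is a fixed one times an inverted one -/
theorem decomp (hu : u * u = 1) {K : Subgroup G} (hK : Odd (Nat.card K)) (hn : u ∈ normalizer (K : Set G))
    {k : G} (hk : k ∈ K) : ∃ w ∈ K, ∃ i ∈ K, u * w = w * u ∧ u * i * u⁻¹ = i⁻¹ ∧ k = w * i := by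
  set j := k⁻¹ * (u * k * u⁻¹) with hj
  have hjK : j ∈ K := K.mul_mem (K.inv_mem hk) ((mem_normalizer_iff.1 hn k).1 hk)
  have ho : Odd (orderOf j) := hK.of_dvd_nat ((Subgroup.orderOf_mk j hjK) ▸ orderOf_dvd_natCard _)
  obtain ⟨m, hm⟩ := ho
  set i := j⁻¹ ^ (m + 1) with hi
  have hiu : u * i * u⁻¹ = i⁻¹ := inverted_pow (inverted_inv (inverted_div hu k)) _
  have hii : i * i = j⁻¹ := by
    rw [hi, ← pow_add, show m + 1 + (m + 1) = orderOf j + 1 by omega, pow_succ, ← orderOf_inv j,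
      pow_orderOf_eq_one, one_mul]
  have hiK : i ∈ K := K.pow_mem (K.inv_mem hjK) _
  refine ⟨k * i⁻¹, K.mul_mem hk (K.inv_mem hiK), i, hiK, ?_, hiu, by group⟩
  have h1 : u * (k * i⁻¹) * u⁻¹ = k * i⁻¹ := by
    calc u * (k * i⁻¹) * u⁻¹ = (u * k * u⁻¹) * (u * i * u⁻¹)⁻¹ := by group
      _ = (k * j) * i := by rw [hiu, inv_inv, hj, mul_inv_cancel_left]
      _ = k * (i * i)⁻¹ * i := by rw [hii, inv_inv]
      _ = _ := by group
  rwa [mul_inv_eq_iff_eq_mul] at h1

/-- a subgroup without fixed elements is inverted -/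
theorem inverts (hu : u * u = 1) {K : Subgroup G} (hn : u ∈ normalizer (K : Set G))
    (hf : ∀ x ∈ K, u * x = x * u → x = 1) : ∀ x ∈ K, u * x * u⁻¹ = x⁻¹ :=
  Cfsg.Lib.RankOne.inverts_of_fpf hu (fun x hx => (mem_normalizer_iff.1 hn x).1 hx) hf

/-- in a cyclic group the solutions of `x ^ p = 1` are the powers of one of them -/
theorem mem_zpowers_of_cyclic {p : ℕ} (hp : p.Prime) {g x z : G} (hx : x ∈ zpowers g) (hz : z ∈ zpowers g)
    (hxp : x ^ p = 1) (hzp : z ^ p = 1) (hz1 : z ≠ 1) : x ∈ zpowers z := by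
  classical
  haveI := Fintype.ofFinite (zpowers g)
  have hle := IsCyclic.card_pow_eq_one_le (α := zpowers g) hp.pos
  have hsub : (Finset.univ.filter fun a : zpowers g => (a : G) ∈ zpowers z) ⊆
      Finset.univ.filter fun a : zpowers g => a ^ p = 1 := by
    intro a ha
    simp only [Finset.mem_filter, Finset.mem_univ, true_and] at ha ⊢
    obtain ⟨n, hn⟩ := mem_zpowers_iff.1 ha
    refine Subtype.ext ?_
    show (a : G) ^ p = 1
    rw [← hn, ← zpow_natCast, zpow_comm, zpow_natCast, hzp, one_zpow]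
  have hcard : (Finset.univ.filter fun a : zpowers g => (a : G) ∈ zpowers z).card = p := by
    rw [← Fintype.card_subtype, ← Nat.card_eq_fintype_card]
    haveI : Fact p.Prime := ⟨hp⟩
    rw [show (p : ℕ) = Nat.card (zpowers z) by rw [Nat.card_zpowers, orderOf_eq_prime hzp hz1]]
    refine Nat.card_congr ⟨fun a => ⟨a.1, a.2⟩, fun b => ⟨⟨b, zpowers_le.2 hz b.2⟩, b.2⟩, fun _ => rfl, fun _ => rfl⟩
  have heq := Finset.eq_of_subset_of_card_le hsub (by rw [hcard]; exact hle)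
  have hmem : (⟨x, hx⟩ : zpowers g) ∈ Finset.univ.filter fun a : zpowers g => a ^ p = 1 := by
    simp only [Finset.mem_filter, Finset.mem_univ, true_and]
    exact Subtype.ext hxp
  rw [← heq] at hmem
  simpa using hmem

end Cfsg.Lib.GW.Mixed.Invol
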