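import Cfsg.Agent.FourGroupGW.Basic
import Cfsg.Agent.FourGroupGW.Mixed.Invol
import Cfsg.Agent.FourGroupGW.Mixed.Count

/-!
Four-group theorem, COUNT: the class of a fixed element `a` against the torus of its centraliser.
-/

set_option autoImplicit false
set_option linter.unusedSectionVars false

namespace Cfsg.Lib.GW.Mixed

open Subgroup

universe u

variable {G : Type u} [Group G] [Finite G] (F : Frame G)

/-- a fixed element `a` and an inverted element `z` of order `p` commuting with it -/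
structure Cfg (p : ℕ) (S : Subgroup G) (a z : G) : Prop where
  hp : p.Prime
  hp2 : p ≠ 2
  le : S ≤ F.O
  pgroup : IsPGroup p S
  spec : F.LocalSpec p S
  a_mem : a ∈ S
  a_fixed : F.u * a * F.u⁻¹ = a
  a_ne : a ≠ 1
  z_mem : z ∈ S
  z_inv : F.u * z * F.u⁻¹ = z⁻¹
  z_pow : z ^ p = 1
  z_ne : z ≠ 1
  comm : a * z = z * a

variable {F}

/-- an involution of the centraliser of `t` centralising an inverted element is `t` -/
theorem involution_eq_t (hm : Minimal G) {z y : G} (hzO : z ∈ F.O) (hz : F.u * z * F.u⁻¹ = z⁻¹) (hz1 : z ≠ 1)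
    (hyz : y * z = z * y) (hy : y * y = 1) (hy1 : y ≠ 1) (hyC : y ∈ F.C) : y = F.t := by
  have hyOU : y ∈ F.O ⊔ F.U := F.C_eq hm ▸ hyC
  obtain ⟨v, hv, o, ho, rfl⟩ := (Cfsg.Lib.Coprime.mem_sup_of_le_normalizer' F.U_le_normalizer_O).1 hyOU
  have hto : o * F.t = F.t * o := F.mem_C.1 (F.O_le ho)
  have hodd := Frame.odd_orderOf F.odd_card_O ho
  have key : ∀ v' : G, v' * z * v'⁻¹ = z⁻¹ → v' * o * z = z * (v' * o) → False := by
    intro v' hv' h
    have h1 : o * z * o⁻¹ = z⁻¹ := by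
      calc o * z * o⁻¹ = v'⁻¹ * (v' * o * z) * o⁻¹ := by group
        _ = v'⁻¹ * (v' * z * v'⁻¹)⁻¹ * v' := by rw [h, hv', inv_inv]; group
        _ = z⁻¹ := by group
    have h2 : Commute (o * o) z := by
      calc o * o * z = o * (o * z * o⁻¹) * o := by group
        _ = (o * z * o⁻¹)⁻¹ * (o * o) := by
          conv_lhs => rw [h1]
          group
        _ = z * (o * o) := by rw [h1, inv_inv]
    obtain ⟨m, hm'⟩ := hodd
    have h3 : Commute o z := by
      have h4 : o = (o * o) ^ (m + 1) := by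
        rw [← pow_two, ← pow_mul, show 2 * (m + 1) = orderOf o + 1 by omega, pow_succ, pow_orderOf_eq_one, one_mul]
      rw [h4]
      exact h2.pow_left _
    rw [h3.eq, mul_inv_cancel_right] at h1
    exact hz1 (Frame.eq_one_of_fixed_inverted (s := (1 : G)) (Frame.odd_orderOf F.odd_card_O hzO) (by group)
      (by rw [← h1]; group))
  have htz : F.t * z * F.t⁻¹ = z := mul_inv_eq_iff_eq_mul.2 (F.mem_C.1 (F.O_le hzO)).symm
  rcases F.mem_U.1 hv with rfl | rfl | rfl | rfl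
  · rw [one_mul] at hy hy1
    exact absurd (mem_bot.1 (Cfsg.Lib.GenDihedral.mem_of_sq (W := ⊥) hodd (mem_bot.2 hy))) hy1
  · have hoo : o * o = 1 := by
      rw [← hy, show F.t * o * (F.t * o) = F.t * (o * F.t) * o by group, hto, ← mul_assoc F.t F.t o, F.t_sq,
        one_mul]
    rw [mem_bot.1 (Cfsg.Lib.GenDihedral.mem_of_sq (W := ⊥) hodd (mem_bot.2 hoo)), mul_one]
  · exact (key F.u hz hyz).elim
  · refine (key (F.t * F.u) ?_ hyz).elim
    calc F.t * F.u * z * (F.t * F.u)⁻¹ = F.t * (F.u * z * F.u⁻¹) * F.t⁻¹ := by group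
      _ = (F.t * z * F.t⁻¹)⁻¹ := by rw [hz]; group
      _ = z⁻¹ := by rw [htz]

namespace Cfg

variable {p : ℕ} {S : Subgroup G} {a z : G} (c : Cfg F p S a z)
include c

theorem a_W : a ∈ F.W := F.mem_W.2 ⟨c.le c.a_mem, (mul_inv_eq_iff_eq_mul.1 c.a_fixed).symm⟩

theorem z_O : z ∈ F.O := c.le c.z_mem

theorem centralizer_zpowers : centralizer ((zpowers a : Subgroup G) : Set G) = centralizer ({a} : Set G) := by
  rw [zpowers_eq_closure, centralizer_closure]

theorem fusing : F.Fusing (centralizer ({a} : Set G)) := by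
  rw [← c.centralizer_zpowers]
  refine c.spec.fusing_centralizer (zpowers a) (zpowers_le.2 c.a_W) ?_ (by rw [Ne, zpowers_eq_bot]; exact c.a_ne)
  exact c.pgroup.to_le (zpowers_le.2 c.a_mem)

theorem ne_top (hm : Minimal G) : centralizer ({a} : Set G) ≠ ⊤ := by
  intro h
  haveI := hm.simple
  have ha : a ∈ center G := mem_center_iff.2 fun g =>
    mem_centralizer_singleton_iff.1 (h ▸ mem_top g : g ∈ centralizer ({a} : Set G))
  rcases (inferInstance : (center G).Normal).eq_bot_or_eq_top with hb | ht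
  · exact c.a_ne (mem_bot.1 (hb ▸ ha))
  · exact hm.nonab ⟨⟨fun x y => (mem_center_iff.1 (ht ▸ mem_top x : x ∈ center G) y).symm⟩⟩

theorem a_core : a ∈ Core (centralizer ({a} : Set G)) := by
  set H := centralizer ({a} : Set G)
  have haH : a ∈ H := mem_centralizer_singleton_iff.2 rfl
  refine ⟨⟨a, haH⟩, ?_, rfl⟩
  have hn : (zpowers (⟨a, haH⟩ : H)).Normal := by
    refine ⟨fun x hx g => ?_⟩
    obtain ⟨k, rfl⟩ := mem_zpowers_iff.1 hx
    have h1 : Commute g (⟨a, haH⟩ : H) := Subtype.ext (mem_centralizer_singleton_iff.1 g.2)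
    rw [(h1.zpow_right k).eq, mul_inv_cancel_right]
    exact zpow_mem (mem_zpowers _) k
  refine (le_sSup (⟨hn, ?_⟩ : _ ∧ _) : zpowers (⟨a, haH⟩ : H) ≤ _) (mem_zpowers _)
  rw [Nat.card_zpowers, ← Subgroup.orderOf_coe]
  exact Nat.coprime_two_right.2 (Frame.odd_orderOf F.odd_card_O (c.le c.a_mem))

theorem z_not_core (hm : Minimal G) : z ∉ Core (centralizer ({a} : Set G)) := by
  intro h
  have hn : F.U ≤ normalizer ((zpowers z : Subgroup G) : Set G) := by
    rw [F.U_le_iff]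
    constructor
    · exact centralizer_le_normalizer _ (mem_centralizer_iff.2 fun x hx => by
        obtain ⟨k, rfl⟩ := mem_zpowers_iff.1 hx
        exact (Commute.zpow_left (show Commute z F.t from F.mem_C.1 (F.O_le c.z_O)) k).eq)
    · rw [mem_normalizer_iff_map_conj_eq, MonoidHom.map_zpowers]
      show zpowers (F.u * z * F.u⁻¹) = _
      rw [c.z_inv, zpowers_inv]
  have h1 := c.spec.core_fixed _ (c.ne_top hm) c.fusing (zpowers z) (c.pgroup.to_le (zpowers_le.2 c.z_mem))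
    (zpowers_le.2 h) hn (mem_zpowers z)
  exact c.z_ne (Frame.eq_one_of_fixed_inverted (Frame.odd_orderOf F.odd_card_O c.z_O)
    (mul_inv_eq_iff_eq_mul.2 (mem_centralizer_iff.1 h1 F.u F.u_mem_U)) c.z_inv)

theorem z_order : orderOf z = p := by
  haveI : Fact p.Prime := ⟨c.hp⟩
  exact orderOf_eq_prime c.z_pow c.z_ne

/-- an inverted element of the torus with `z` among its powers has order dividing `T` -/
theorem orderOf_dvd (hm : Minimal G) {T Q : ℕ} (hT : F.Top (centralizer ({a} : Set G)) T Q) {r : G}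
    (hr : r ∈ S) (hru : F.u * r * F.u⁻¹ = r⁻¹) (hra : a * r = r * a) (hzr : z ∈ zpowers r) : orderOf r ∣ T := by
  haveI : Fact p.Prime := ⟨c.hp⟩
  set H := centralizer ({a} : Set G)
  have hle : zpowers r ≤ H ⊓ F.O :=
    zpowers_le.2 ⟨mem_centralizer_singleton_iff.2 hra.symm, c.le hr⟩
  have h1 := (hT.torus (zpowers r) hle (fun k hk => by
    obtain ⟨n, rfl⟩ := mem_zpowers_iff.1 hk
    rw [Invol.inverted_zpow hru n, inv_mul_cancel]
    exact one_mem _)).1
  have hdis : Core H ⊓ zpowers r = ⊥ := by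
    rw [eq_bot_iff]
    rintro x ⟨hxc, hxr⟩
    by_contra hx
    obtain ⟨n, hn⟩ := c.pgroup ⟨x, zpowers_le.2 hr hxr⟩
    have hn' : x ^ p ^ n = 1 := congrArg Subtype.val hn
    obtain ⟨m, -, hm'⟩ := (Nat.dvd_prime_pow c.hp).1 (orderOf_dvd_of_pow_eq_one hn')
    rcases m with _ | m
    · exact hx (mem_bot.2 (orderOf_eq_one_iff.1 (by simpa using hm')))
    have hyp : (x ^ p ^ m) ^ p = 1 := by rw [← pow_mul, ← pow_succ, ← hm', pow_orderOf_eq_one]
    have hy1 : x ^ p ^ m ≠ 1 := fun h => by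
      have h2 := orderOf_dvd_of_pow_eq_one h
      rw [hm'] at h2
      exact absurd ((Nat.pow_dvd_pow_iff_le_right c.hp.one_lt).1 h2) (by omega)
    obtain ⟨k, hk⟩ := mem_zpowers_iff.1 (Invol.mem_zpowers_of_cyclic c.hp hzr
      ((zpowers r).pow_mem hxr _) c.z_pow hyp hy1)
    exact c.z_not_core hm (hk ▸ (Core H).zpow_mem ((Core H).pow_mem hxc _) k)
  rwa [← inf_relIndex_right, hdis, relIndex_bot_left, Nat.card_zpowers] at h1

/-- the elements of `⟨a⟩z^j` are conjugate in the centraliser only inside `N` -/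
theorem key (hm : Minimal G) {T Q : ℕ} (hT : F.Top (centralizer ({a} : Set G)) T Q) {i i' j j' : ℤ}
    (hj : z ^ j ≠ 1) {h : G} (hh : h ∈ centralizer ({a} : Set G))
    (he : h * (a ^ i * z ^ j) * h⁻¹ = a ^ i' * z ^ j') :
    h ∈ Core (centralizer ({a} : Set G)) ⊔ (centralizer ({a} : Set G) ⊓ F.C) := by
  classical
  set H := centralizer ({a} : Set G)
  set N := Core H ⊔ (H ⊓ F.C)
  have hha : Commute h a := mem_centralizer_singleton_iff.1 hh
  have hzH : z ∈ H := mem_centralizer_singleton_iff.2 c.comm.symm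
  obtain ⟨k, hk⟩ : ∃ k : ℤ, (z ^ j) ^ k = z := mem_zpowers_iff.1 (Invol.mem_zpowers_of_cyclic c.hp
    (mem_zpowers z) (zpow_mem (mem_zpowers z) j) c.z_pow
    (by rw [← zpow_natCast, zpow_comm, zpow_natCast, c.z_pow, one_zpow]) hj)
  have hzj : h * z ^ j * h⁻¹ = a ^ (i' - i) * z ^ j' := by
    calc h * z ^ j * h⁻¹ = (a ^ i)⁻¹ * ((a ^ i * h) * z ^ j * h⁻¹) := by group
      _ = (a ^ i)⁻¹ * (h * (a ^ i * z ^ j) * h⁻¹) := by rw [← (hha.zpow_right i).eq]; group
      _ = _ := by rw [he]; group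
  have hz' : h * z * h⁻¹ = (a ^ (i' - i) * z ^ j') ^ k := by
    rw [← hzj, conj_zpow, hk]
  set D := H ⊓ centralizer ({z} : Set G) with hD
  have hDN : D ≤ N := hT.centralizer_le z ⟨hzH, c.z_O⟩ (c.z_not_core hm)
    (by rw [c.z_inv, inv_mul_cancel]; exact one_mem _)
  have hstab : ∀ g ∈ D, h⁻¹ * g * h ∈ D := by
    rintro g ⟨hg1, hg2⟩
    refine ⟨H.mul_mem (H.mul_mem (H.inv_mem hh) hg1) hh, mem_centralizer_singleton_iff.2 ?_⟩
    have hga : Commute g a := mem_centralizer_singleton_iff.1 hg1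
    have hgz : Commute g z := mem_centralizer_singleton_iff.1 hg2
    have h1 : Commute g (h * z * h⁻¹) := hz' ▸ (((hga.zpow_right _).mul_right (hgz.zpow_right _)).zpow_right k)
    calc h⁻¹ * g * h * z = h⁻¹ * (g * (h * z * h⁻¹)) * h := by group
      _ = h⁻¹ * ((h * z * h⁻¹) * g) * h := by rw [h1.eq]
      _ = z * (h⁻¹ * g * h) := by group
  have htD : F.t ∈ D := ⟨mem_centralizer_singleton_iff.2 (F.mem_C.1 (F.O_le (c.le c.a_mem))).symm,
    mem_centralizer_singleton_iff.2 (F.mem_C.1 (F.O_le c.z_O)).symm⟩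
  set y := h⁻¹ * F.t * h with hy
  have hyD : y ∈ D := hstab _ htD
  have hy2 : y * y = 1 := by
    rw [hy, show h⁻¹ * F.t * h * (h⁻¹ * F.t * h) = h⁻¹ * (F.t * F.t) * h by group, F.t_sq]; group
  have hy1 : y ≠ 1 := fun e => F.t_ne_one (by
    calc F.t = h * y * h⁻¹ := by rw [hy]; group
      _ = 1 := by rw [e]; group)
  have hyz : y * z = z * y := mem_centralizer_singleton_iff.1 hyD.2
  -- `y` is conjugate to `t` inside `D`
  obtain ⟨d, hdD, hd⟩ : ∃ d ∈ D, d * F.t * d⁻¹ = y := by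
    have hyi : y⁻¹ = y := inv_eq_of_mul_eq_one_right hy2
    set w := y * F.t
    have hwD : w ∈ D := D.mul_mem hyD htD
    have hwi : ∀ m : ℕ, F.t * (w ^ m)⁻¹ = w ^ m * F.t := by
      intro m
      have h1 : F.t * w⁻¹ * F.t⁻¹ = w := by
        rw [mul_inv_rev, hyi, F.t_inv, ← mul_assoc, ← mul_assoc, F.t_sq, one_mul]
      have h2 : F.t * (w ^ m)⁻¹ * F.t⁻¹ = w ^ m := by rw [← inv_pow, ← conj_pow, h1]
      calc F.t * (w ^ m)⁻¹ = F.t * (w ^ m)⁻¹ * F.t⁻¹ * F.t := by group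
        _ = _ := by rw [h2]
    rcases Nat.even_or_odd (orderOf w) with ⟨m, hm'⟩ | ⟨m, hm'⟩
    · have hw1 : w ^ m * w ^ m = 1 := by rw [← pow_add, ← hm', pow_orderOf_eq_one]
      have hm0 : 0 < m := by have := orderOf_pos w; omega
      have hwne : w ^ m ≠ 1 := fun e => by
        have := Nat.le_of_dvd hm0 (orderOf_dvd_of_pow_eq_one e)
        omega
      have hwt : w ^ m * F.t = F.t * w ^ m := by
        rw [← hwi m, inv_eq_of_mul_eq_one_right hw1]
      have hwt' : w ^ m = F.t := involution_eq_t hm c.z_O c.z_inv c.z_ne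
        (mem_centralizer_singleton_iff.1 (D.pow_mem hwD m).2) hw1 hwne (F.mem_C.2 hwt)
      have h3 : Commute w F.t := hwt' ▸ Commute.self_pow w m
      have hyt : y * F.t = F.t * y := by
        have h4 := h3.mul_left (Commute.refl F.t).inv_left
        rw [mul_inv_cancel_right] at h4
        exact h4.eq
      exact ⟨1, one_mem _, by rw [involution_eq_t hm c.z_O c.z_inv c.z_ne hyz hy2 hy1 (F.mem_C.2 hyt)]; group⟩
    · refine ⟨w ^ (m + 1), D.pow_mem hwD _, ?_⟩
      calc w ^ (m + 1) * F.t * (w ^ (m + 1))⁻¹ = w ^ (m + 1) * (F.t * (w ^ (m + 1))⁻¹) := by group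
        _ = w ^ (m + 1) * w ^ (m + 1) * F.t := by rw [hwi, mul_assoc]
        _ = y := by
          rw [← pow_add, show m + 1 + (m + 1) = orderOf w + 1 by omega, pow_succ, pow_orderOf_eq_one, one_mul,
            mul_assoc, F.t_sq, mul_one]
  have hhd : h * d ∈ H ⊓ F.C := by
    refine ⟨H.mul_mem hh hdD.1, F.mem_C.2 ?_⟩
    calc h * d * F.t = h * (d * F.t * d⁻¹) * d := by group
      _ = F.t * (h * d) := by rw [hd, hy]; group
  have h5 := N.mul_mem (mem_sup_right hhd) (N.inv_mem (hDN hdD))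
  rwa [mul_inv_cancel_right] at h5

/-- the count: the number of parameters, their bounds, and the two sides -/
theorem count (hm : Minimal G) (hspec : F.TopSpec) :
    ∃ T Q : ℕ, 3 ≤ T ∧ p ≤ T ∧ (4 * T - 1) * (2 * T - 1) ≤ Q ∧
      (∀ r ∈ S, F.u * r * F.u⁻¹ = r⁻¹ → a * r = r * a → z ∈ zpowers r → orderOf r ≤ T) ∧
      (∀ X : Set G, X ⊆ orb (⊤ : Subgroup G) a → (∀ x ∈ X, ∃ i j : ℤ, x = a ^ i * z ^ j ∧ z ^ j ≠ 1) →
        X.ncard * Q ≤ (orb (⊤ : Subgroup G) a).ncard) ∧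
      ((orb (⊤ : Subgroup G) a).ncard : ℚ) * F.F0 * Q * ((orb F.W a).ncard : ℚ) ^ 2 =
        8 * (T : ℚ) ^ 2 * ((orb F.O a).ncard : ℚ) ^ 3 := by
  obtain ⟨T, Q, hT⟩ := hspec _ (c.ne_top hm) c.fusing
  have hdvd : ∀ r ∈ S, F.u * r * F.u⁻¹ = r⁻¹ → a * r = r * a → z ∈ zpowers r → orderOf r ≤ T :=
    fun r hr hru hra hzr => Nat.le_of_dvd hT.T_odd.pos (c.orderOf_dvd hm hT hr hru hra hzr)
  have hpT : p ≤ T := c.z_order ▸ hdvd z c.z_mem c.z_inv c.comm (mem_zpowers z)
  refine ⟨T, Q, (show 3 ≤ p by have := c.hp.two_le; have := c.hp2; omega).trans hpT, hpT, hT.Q_bound, hdvd,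
    fun X hX hXf => ?_, ?_⟩
  · rw [← hT.index]
    refine spread (fun x hx h hh hxh => ?_) hX
    obtain ⟨i, j, rfl, hj⟩ := hXf x hx
    obtain ⟨i', j', he, -⟩ := hXf _ hxh
    exact c.key hm hT hj hh he
  · have hord := hT.order
    rw [inf_comm _ F.W, inf_comm _ F.O] at hord
    have h1 := card_orb (⊤ : Subgroup G) a
    rw [top_inf_eq, card_top] at h1
    have h2 := card_orb F.O a
    have h3 := card_orb F.W a
    rw [Frame.F0, ← h1, ← h2, ← h3]
    set H := centralizer ({a} : Set G)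
    have hH : (Nat.card H : ℚ) ≠ 0 := Nat.cast_ne_zero.2 Nat.card_pos.ne'
    have hN : ((orb (⊤ : Subgroup G) a).ncard : ℚ) ≠ 0 :=
      Nat.cast_ne_zero.2 ((Set.ncard_pos (Set.toFinite (orb (⊤ : Subgroup G) a))).2 ⟨_, 1, mem_top _, rfl⟩).ne'
    have he : ((orb F.W a).ncard : ℚ) ≠ 0 := Nat.cast_ne_zero.2 ((Set.ncard_pos (Set.toFinite (orb F.W a))).2 ⟨_, 1, one_mem _, rfl⟩).ne'
    have hWH : (Nat.card ↥(F.W ⊓ H) : ℚ) ≠ 0 := Nat.cast_ne_zero.2 Nat.card_pos.ne'
    have hord' : (Nat.card H : ℚ) * (Nat.card ↥(F.W ⊓ H)) ^ 2 * (T : ℚ) ^ 2 =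
        4 * (Nat.card ↥(F.O ⊓ H)) ^ 3 * Q := by exact_mod_cast hord
    push_cast
    field_simp
    linear_combination (-8 : ℚ) * ((orb F.O a).ncard : ℚ) ^ 3 * hord'

end Cfg

end Cfsg.Lib.GW.Mixed
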