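import Cfsg.Agent.FourGroupGW.Mixed.Invol
import Cfsg.Agent.SolvStruct.PGroupBasics
import Cfsg.Agent.PGroups.Commutators
import Cfsg.Agent.OddLocal.CommutatorPLength

/-!
Four-group theorem, section 5: inside `O_p(O)` the elements inverted by `u` commute.
-/

set_option autoImplicit false
set_option linter.unusedSectionVars false
set_option linter.style.haveILetI false

namespace Cfsg.Lib.GW.Mixed

open Subgroup
open scoped commutatorElement

variable {G : Type*} [Group G] [Finite G]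

/-- the local facts section 5 uses: `R` is `O_p` of `O`, inside the `p`-group `S` -/
structure Five (p : ℕ) (u : G) (O S R : Subgroup G) : Prop where
  hp : p.Prime
  hp2 : p ≠ 2
  hu : u * u = 1
  hO : Odd (Nat.card O)
  hOu : u ∈ normalizer (O : Set G)
  hS : IsPGroup p S
  hSO : S ≤ O
  hRS : R ≤ S
  hOR : O ≤ normalizer (R : Set G)
  huR : u ∈ normalizer (R : Set G)
  cyc : ∀ a ∈ S, u * a = a * u → a ≠ 1 →
    ∃ g : G, ∀ x ∈ S, a * x = x * a → u * x * u⁻¹ = x⁻¹ → x ∈ zpowers g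

namespace Five

variable {p : ℕ} {u : G} {O S R : Subgroup G} (d : Five p u O S R)
include d

theorem odd_orderOf {x : G} (hx : x ∈ S) : Odd (orderOf x) :=
  d.hO.of_dvd_nat ((Subgroup.orderOf_mk x (d.hSO hx)) ▸ orderOf_dvd_natCard _)

/-- inverted elements of order `p` centralising a fixed element lie in one group of order `p` -/
theorem mem_zpowers {a z x : G} (ha : a ∈ S) (hau : u * a = a * u) (ha1 : a ≠ 1)
    (hz : z ∈ S) (haz : a * z = z * a) (hzu : u * z * u⁻¹ = z⁻¹) (hzp : z ^ p = 1) (hz1 : z ≠ 1)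
    (hx : x ∈ S) (hax : a * x = x * a) (hxu : u * x * u⁻¹ = x⁻¹) (hxp : x ^ p = 1) : x ∈ zpowers z := by
  obtain ⟨g, hg⟩ := d.cyc a ha hau ha1
  exact Invol.mem_zpowers_of_cyclic d.hp (hg x hx hax hxu) (hg z hz haz hzu) hxp hzp hz1

/-- two inverted elements centralising a nontrivial fixed element commute -/
theorem comm_of_fixed {a x y : G} (ha : a ∈ S) (hau : u * a = a * u) (ha1 : a ≠ 1)
    (hx : x ∈ S) (hax : a * x = x * a) (hxu : u * x * u⁻¹ = x⁻¹)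
    (hy : y ∈ S) (hay : a * y = y * a) (hyu : u * y * u⁻¹ = y⁻¹) : x * y = y * x := by
  obtain ⟨g, hg⟩ := d.cyc a ha hau ha1
  obtain ⟨i, rfl⟩ := mem_zpowers_iff.1 (hg x hx hax hxu)
  obtain ⟨j, rfl⟩ := mem_zpowers_iff.1 (hg y hy hay hyu)
  rw [← zpow_add, ← zpow_add, add_comm]

/-- no mixed normal elementary abelian subgroup makes the inverted elements of `R` commute -/
theorem comm_inverted
    (hmix : ∀ P : Subgroup G, P ≤ R → (∀ a ∈ P, ∀ b ∈ P, a * b = b * a) → (∀ a ∈ P, a ^ p = 1) →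
      normalizer (R : Set G) ≤ normalizer (P : Set G) → O ≤ normalizer (P : Set G) →
      u ∈ normalizer (P : Set G) → ∀ a ∈ P, u * a = a * u → a = 1) :
    ∀ x ∈ R, ∀ y ∈ R, u * x * u⁻¹ = x⁻¹ → u * y * u⁻¹ = y⁻¹ → x * y = y * x := by
  haveI : Fact p.Prime := ⟨d.hp⟩
  have hRp : IsPGroup p R := d.hS.to_le d.hRS
  obtain ⟨H, hHc, -, hHR, hCH⟩ := Cfsg.Lib.SolvStruct.exists_critical hRp
  haveI := hHc
  set K := H.map R.subtype with hK
  set Y₀ : Subgroup R := closure {y : R | y ∈ H ∧ y ^ p = 1} with hY₀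
  haveI : Y₀.Characteristic := by
    refine characteristic_iff_map_le.2 fun e => ?_
    rw [hY₀, MonoidHom.map_closure, closure_le]
    rintro _ ⟨y, ⟨hyH, hyp⟩, rfl⟩
    exact subset_closure ⟨(characteristic_iff_map_eq.1 hHc e).le (mem_map_of_mem _ hyH),
      by rw [← map_pow, hyp, map_one]⟩
  set Y := Y₀.map R.subtype with hY
  have hYR : Y ≤ R := map_subtype_le _
  have hKR : K ≤ R := map_subtype_le _
  have hYK : Y ≤ K := map_mono ((closure_le _).2 fun y hy => hy.1)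
  have hKn : normalizer (R : Set G) ≤ normalizer (K : Set G) :=
    Cfsg.Lib.OddP.le_normalizer_map_of_char H
  have hYn : normalizer (R : Set G) ≤ normalizer (Y : Set G) :=
    Cfsg.Lib.OddP.le_normalizer_map_of_char Y₀
  have hCK : ∀ x ∈ R, (∀ k ∈ K, k * x = x * k) → x ∈ K := fun x hx h =>
    ⟨⟨x, hx⟩, hCH (mem_centralizer_iff.2 fun k hk => Subtype.ext (h k (mem_map_of_mem _ hk))), rfl⟩
  have hcentK : ∀ x ∈ R, ∀ k ∈ K, ∀ k' ∈ K, k' * (x * k * x⁻¹ * k⁻¹) = x * k * x⁻¹ * k⁻¹ * k' := by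
    rintro x hx _ ⟨k, hk, rfl⟩ _ ⟨k', hk', rfl⟩
    have h1 : ⁅(⟨x, hx⟩ : R), k⁆ ∈ H ⊓ centralizer (H : Set R) := by
      rw [← inv_mem_iff, commutatorElement_inv]
      exact hHR (commutator_mem_commutator hk (mem_top _))
    exact congrArg Subtype.val (mem_centralizer_iff.1 h1.2 k' hk')
  have hYp : ∀ y ∈ Y, y ^ p = 1 := by
    rintro _ ⟨y, hy, rfl⟩
    have hle : Y₀ ≤ (closure {y : H | y ^ p = 1}).map H.subtype := by
      refine (closure_le _).mpr ?_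
      rintro y ⟨hy, hyp⟩
      exact ⟨⟨y, hy⟩, subset_closure (show (⟨y, hy⟩ : H) ^ p = 1 from Subtype.ext hyp), rfl⟩
    have hcl : ⁅commutator H, (⊤ : Subgroup H)⁆ = ⊥ := by
      rw [commutator_eq_bot_iff_le_centralizer, _root_.commutator_def, commutator_le]
      intro a _ b _
      refine mem_centralizer_iff.mpr fun c _ => ?_
      have h1 : ⁅(a : R), (b : R)⁆ ∈ centralizer (H : Set R) :=
        (hHR (commutator_mem_commutator a.2 (mem_top (b : R)))).2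
      exact Subtype.ext (mem_centralizer_iff.mp h1 c c.2)
    obtain ⟨y', hy', rfl⟩ := hle hy
    rw [← map_pow, ← map_pow, Cfsg.Lib.PGroups.pow_eq_one_of_mem_closure_class_two d.hp d.hp2 hcl hy',
      map_one, map_one]
  intro x hx y hy hxu hyu
  by_contra hxy
  -- a fixed element of order `p`
  obtain ⟨b, hbY, hb1, hbu⟩ : ∃ b ∈ Y, b ≠ 1 ∧ u * b = b * u := by
    by_contra hno
    push Not at hno
    have hfix : ∀ k ∈ K, u * k = k * u → k = 1 := by
      intro k hk hku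
      by_contra hk1
      obtain ⟨n, hn⟩ := hRp ⟨k, hKR hk⟩
      have hn' : k ^ p ^ n = 1 := congrArg Subtype.val hn
      obtain ⟨m, hm⟩ := (Nat.dvd_prime_pow d.hp).1 (orderOf_dvd_of_pow_eq_one hn')
      rcases m with _ | m
      · exact hk1 (orderOf_eq_one_iff.1 (by simpa using hm.2))
      have hkp : (k ^ p ^ m) ^ p = 1 := by rw [← pow_mul, ← pow_succ, ← hm.2, pow_orderOf_eq_one]
      obtain ⟨k', hk', hkk⟩ := K.pow_mem hk (p ^ m)
      refine hno (k ^ p ^ m) ⟨k', subset_closure ⟨hk', R.subtype_injective ?_⟩, hkk⟩ ?_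
        (Commute.pow_right hku _)
      · rw [map_pow, map_one, hkk, hkp]
      · intro h1
        have h2 := orderOf_dvd_of_pow_eq_one h1
        rw [hm.2] at h2
        exact absurd ((Nat.pow_dvd_pow_iff_le_right d.hp.one_lt).1 h2) (by omega)
    have hinv := Invol.inverts d.hu (hKn d.huR) hfix
    have hcomm : ∀ a ∈ K, ∀ b ∈ K, a * b = b * a := fun a ha b hb => by
      have h1 := hinv _ (K.mul_mem ha hb)
      rw [conj_mul.symm, hinv a ha, hinv b hb, mul_inv_rev] at h1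
      simpa using congrArg (·⁻¹) h1.symm
    have hcent : ∀ r ∈ R, u * r * u⁻¹ = r⁻¹ → r ∈ K := by
      intro r hr hru
      refine hCK r hr fun k hk => ?_
      have hrk : r * k * r⁻¹ ∈ K := (mem_normalizer_iff.1 (hKn (Subgroup.le_normalizer hr)) k).1 hk
      have h1 := hinv _ hrk
      have h2 : u * (r * k * r⁻¹) * u⁻¹ = r⁻¹ * k⁻¹ * r := by
        calc u * (r * k * r⁻¹) * u⁻¹ = (u * r * u⁻¹) * (u * k * u⁻¹) * (u * r * u⁻¹)⁻¹ := by group
          _ = _ := by rw [hru, hinv k hk, inv_inv]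
      rw [h2] at h1
      have h3 : (r * r) * k = k * (r * r) := by
        calc (r * r) * k = r * (r * k * r⁻¹) * r := by group
          _ = r * (r⁻¹ * k⁻¹ * r)⁻¹ * r := by rw [h1, inv_inv]
          _ = k * (r * r) := by group
      obtain ⟨n, hn⟩ := d.odd_orderOf (d.hRS hr)
      have h4 : r = (r * r) ^ (n + 1) := by
        rw [← pow_two, ← pow_mul, show 2 * (n + 1) = orderOf r + 1 by omega, pow_succ, pow_orderOf_eq_one, one_mul]
      rw [h4]
      exact (Commute.pow_left h3 _).symm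
    exact hxy (hcomm x (hcent x hx hxu) y (hcent y hy hyu))
  -- the centre of `Y`
  set Z := Y ⊓ centralizer (Y : Set G) with hZ
  have hZn : normalizer (R : Set G) ≤ normalizer (Z : Set G) :=
    hYn.trans ((le_inf le_rfl (Cfsg.Lib.Thompson.normalizer_le_normalizer_centralizer _)).trans inf_normalizer_le_normalizer_inf)
  have hZinv : ∀ z ∈ Z, u * z * u⁻¹ = z⁻¹ := Invol.inverts d.hu (hZn d.huR) fun z hz hzu =>
    hmix Z (inf_le_left.trans hYR) (fun a ha b hb => (mem_centralizer_iff.1 hb.2 a ha.1))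
      (fun a ha => hYp a ha.1) hZn (d.hOR.trans hZn) (hZn d.huR) z hz hzu
  have hcZ : ∀ r ∈ R, ∀ v ∈ Y, r * v * r⁻¹ * v⁻¹ ∈ Z := fun r hr v hv =>
    ⟨Y.mul_mem ((mem_normalizer_iff.1 (hYn (Subgroup.le_normalizer hr)) v).1 hv) (Y.inv_mem hv),
      mem_centralizer_iff.2 fun v' hv' => hcentK r hr v (hYK hv) v' (hYK hv')⟩
  obtain ⟨v, hvY, hvb⟩ : ∃ v ∈ Y, v * b ≠ b * v := by
    by_contra hno
    push Not at hno
    have hbZ : b ∈ Z := ⟨hbY, mem_centralizer_iff.2 hno⟩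
    exact hb1 (Invol.eq_one_of_inverted_fixed (d.odd_orderOf (d.hRS (hYR hbY))) (hZinv b hbZ) hbu)
  set v₂ := v⁻¹ * (u * v * u⁻¹) with hv₂
  have hv₂Y : v₂ ∈ Y := Y.mul_mem (Y.inv_mem hvY) ((mem_normalizer_iff.1 (hYn d.huR) v).1 hvY)
  have hv₂u : u * v₂ * u⁻¹ = v₂⁻¹ := Invol.inverted_div d.hu v
  set c := v * b * v⁻¹ * b⁻¹ with hc
  have hcmem : c ∈ Z := hcZ v (hYR hvY) b hbY
  have hc1 : c ≠ 1 := fun h => hvb (by rwa [hc, mul_inv_eq_one, mul_inv_eq_iff_eq_mul] at h)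
  have hcb : ∀ z ∈ Z, ∀ w ∈ Y, w * z = z * w := fun z hz w hw => mem_centralizer_iff.1 hz.2 w hw
  have hZz : ∀ z ∈ Z, z ∈ zpowers c := fun z hz =>
    d.mem_zpowers (d.hRS (hYR hbY)) hbu hb1 (d.hRS (hYR hcmem.1)) (hcb c hcmem b hbY) (hZinv c hcmem)
      (hYp c hcmem.1) hc1 (d.hRS (hYR hz.1)) (hcb z hz b hbY) (hZinv z hz) (hYp z hz.1)
  -- the commutator of `v₂` with `b` generates the centre
  have hv₂b : v₂ * b * v₂⁻¹ = c⁻¹ ^ 2 * b := by
    have hbu' : u⁻¹ * b * u = b := by rw [mul_assoc, ← hbu, inv_mul_cancel_left]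
    have e1 : u * v * u⁻¹ * b * (u * v * u⁻¹)⁻¹ = c⁻¹ * b := by
      calc u * v * u⁻¹ * b * (u * v * u⁻¹)⁻¹ = u * (v * (u⁻¹ * b * u) * v⁻¹) * u⁻¹ := by group
        _ = u * (c * b) * u⁻¹ := by rw [hbu', hc, inv_mul_cancel_right]
        _ = (u * c * u⁻¹) * (u * b * u⁻¹) := by group
        _ = c⁻¹ * b := by rw [hZinv c hcmem, hbu, mul_inv_cancel_right]
    have e2 : v⁻¹ * b * v = c⁻¹ * b := by
      have h1 : v * b * v⁻¹ = c * b := by rw [hc, inv_mul_cancel_right]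
      calc v⁻¹ * b * v = v⁻¹ * (c⁻¹ * (v * b * v⁻¹)) * v := by rw [h1, inv_mul_cancel_left]
        _ = (v⁻¹ * c⁻¹) * v * b := by group
        _ = c⁻¹ * b := by rw [hcb _ (Z.inv_mem hcmem) _ (Y.inv_mem hvY), inv_mul_cancel_right]
    calc v₂ * b * v₂⁻¹ = v⁻¹ * (u * v * u⁻¹ * b * (u * v * u⁻¹)⁻¹) * v := by rw [hv₂]; group
      _ = (v⁻¹ * c⁻¹) * b * v := by rw [e1]; group
      _ = c⁻¹ * (v⁻¹ * b * v) := by rw [hcb _ (Z.inv_mem hcmem) _ (Y.inv_mem hvY)]; group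
      _ = _ := by rw [e2, pow_two]; group
  -- the centre of `Y` is central in `R`
  have hZc : ∀ z ∈ Z, ∀ r ∈ R, r * z = z * r := by
    have hZR : Z ≤ R := inf_le_left.trans hYR
    haveI : (Z.subgroupOf R).Normal :=
      normal_subgroupOf_of_le_normalizer (Subgroup.le_normalizer.trans hZn)
    obtain ⟨w, hwZ, hwc, hw⟩ := Cfsg.Lib.PGroups.exists_mem_center_of_normal_ne_bot hRp (N := Z.subgroupOf R)
      (fun h => hc1 (by
        have h1 : (⟨c, hZR hcmem⟩ : R) ∈ Z.subgroupOf R := mem_subgroupOf.2 hcmem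
        rw [h, mem_bot, Subtype.ext_iff] at h1
        exact h1))
    have hw1 : (w : G) ≠ 1 := fun h => by
      rw [show w = 1 from Subtype.ext h, orderOf_one] at hw
      exact d.hp.one_lt.ne hw
    intro z hz r hr
    have hzw : z ∈ zpowers (w : G) := d.mem_zpowers (d.hRS (hYR hbY)) hbu hb1 (d.hRS w.2) (hcb _ hwZ b hbY)
      (hZinv _ hwZ) (hYp _ hwZ.1) hw1 (d.hRS (hZR hz)) (hcb z hz b hbY) (hZinv z hz) (hYp z hz.1)
    obtain ⟨k, rfl⟩ := mem_zpowers_iff.1 hzw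
    exact (Commute.zpow_right (congrArg Subtype.val (mem_center_iff.1 hwc ⟨r, hr⟩) : Commute r (w : G)) k)
  -- inverted elements of `R` commute with `v₂` and, up to it, with `b`
  have hsplit : ∀ r ∈ R, u * r * u⁻¹ = r⁻¹ → Commute r v₂ ∧ ∃ i : ℕ,
      b * (r * v₂ ^ i) = (r * v₂ ^ i) * b ∧ u * (r * v₂ ^ i) * u⁻¹ = (r * v₂ ^ i)⁻¹ := by
    intro r hr hru
    have hd := hcZ r hr v₂ hv₂Y
    set e := r * v₂ * r⁻¹ * v₂⁻¹ with he
    have he1 : u * e * u⁻¹ = e := by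
      calc u * e * u⁻¹ = (u * r * u⁻¹) * (u * v₂ * u⁻¹) * (u * r * u⁻¹)⁻¹ * (u * v₂ * u⁻¹)⁻¹ := by
            rw [he]; group
        _ = (v₂ * r)⁻¹ * (e * (v₂ * r)) := by rw [hru, hv₂u, he]; group
        _ = _ := by rw [← hZc e hd _ (R.mul_mem (hYR hv₂Y) hr), inv_mul_cancel_left]
    have hrv : Commute r v₂ := by
      have h1 : e = 1 := Invol.eq_one_of_inverted_fixed (d.odd_orderOf (d.hRS (hYR hd.1))) (hZinv e hd)
        (mul_inv_eq_iff_eq_mul.1 he1)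
      rwa [he, mul_inv_eq_one, mul_inv_eq_iff_eq_mul] at h1
    obtain ⟨j, hj⟩ : ∃ j : ℕ, c ^ j = r * b * r⁻¹ * b⁻¹ :=
      (mem_powers_iff_mem_zpowers.2 (hZz _ (hcZ r hr b hbY)))
    obtain ⟨n, hn⟩ := d.odd_orderOf (d.hRS (hYR hcmem.1))
    have hpow : ∀ i : ℕ, v₂ ^ i * b * (v₂ ^ i)⁻¹ = (c⁻¹ ^ 2) ^ i * b := by
      intro i
      induction i with
      | zero => simp
      | succ i ih =>
        calc v₂ ^ (i + 1) * b * (v₂ ^ (i + 1))⁻¹ = v₂ * (v₂ ^ i * b * (v₂ ^ i)⁻¹) * v₂⁻¹ := by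
              rw [pow_succ']; group
          _ = (v₂ * (c⁻¹ ^ 2) ^ i) * b * v₂⁻¹ := by rw [ih]; group
          _ = (c⁻¹ ^ 2) ^ i * (v₂ * b * v₂⁻¹) := by
            rw [hcb _ (Z.pow_mem (Z.pow_mem (Z.inv_mem hcmem) 2) i) v₂ hv₂Y]; group
          _ = _ := by rw [hv₂b, ← mul_assoc, ← pow_succ]
    refine ⟨hrv, j * (n + 1), ?_, ?_⟩
    · have h1 : r * b * r⁻¹ = c ^ j * b := by rw [hj]; group
      have h2 : (r * v₂ ^ (j * (n + 1))) * b * (r * v₂ ^ (j * (n + 1)))⁻¹ = b := by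
        calc (r * v₂ ^ (j * (n + 1))) * b * (r * v₂ ^ (j * (n + 1)))⁻¹
            = r * (v₂ ^ (j * (n + 1)) * b * (v₂ ^ (j * (n + 1)))⁻¹) * r⁻¹ := by group
          _ = r * (c⁻¹ ^ 2) ^ (j * (n + 1)) * b * r⁻¹ := by rw [hpow]; group
          _ = (c⁻¹ ^ 2) ^ (j * (n + 1)) * (r * b * r⁻¹) := by
            rw [hZc _ (Z.pow_mem (Z.pow_mem (Z.inv_mem hcmem) 2) _) r hr]; group
          _ = b := by
            have hc2 : (c⁻¹ ^ 2) ^ (j * (n + 1)) = (c ^ j)⁻¹ := by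
              rw [← pow_mul, inv_pow, inv_inj, show 2 * (j * (n + 1)) = orderOf c * j + j by rw [hn]; ring,
                pow_add, pow_mul, pow_orderOf_eq_one, one_pow, one_mul]
            rw [h1, hc2, inv_mul_cancel_left]
      exact (mul_inv_eq_iff_eq_mul.1 h2).symm
    · rw [← conj_mul, hru, Invol.inverted_pow hv₂u, ← mul_inv_rev, (hrv.pow_right _).eq]
  obtain ⟨hxv, i, hxb, hxi⟩ := hsplit x hx hxu
  obtain ⟨hyv, k, hyb, hyk⟩ := hsplit y hy hyu
  have hcomm := d.comm_of_fixed (d.hRS (hYR hbY)) hbu hb1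
    (d.hRS (R.mul_mem hx (R.pow_mem (hYR hv₂Y) i))) hxb hxi
    (d.hRS (R.mul_mem hy (R.pow_mem (hYR hv₂Y) k))) hyb hyk
  refine hxy ?_
  have e1 : Commute (x * v₂ ^ i) (v₂ ^ k) :=
    (hxv.pow_right k).mul_left (Commute.pow_pow_self v₂ i k)
  have e2 : Commute (x * v₂ ^ i) y := by
    have h3 := (show Commute (x * v₂ ^ i) (y * v₂ ^ k) from hcomm).mul_right e1.inv_right
    rwa [mul_inv_cancel_right] at h3
  have h4 := e2.mul_left ((hyv.symm.pow_left i).inv_left)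
  rwa [mul_inv_cancel_right] at h4

end Five

end Cfsg.Lib.GW.Mixed
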