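import Cfsg.Agent.FourGroupGW.Mixed.Setup

/-!
Four-group theorem, section 5: no elementary abelian normal subgroup inside `O_p(O)` has a nontrivial fixed point when
inverted elements of `O_p(O)` do not commute.
-/

set_option autoImplicit false
set_option linter.unusedSectionVars false
set_option linter.style.haveILetI false

namespace Cfsg.Lib.GW.Mixed

open Subgroup

universe u

variable {G : Type u} [Group G] [Finite G] {F : Frame G} {p : ℕ} {S : Subgroup G}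

theorem no_fixed (hm : Minimal G) (htop : F.TopSpec) (hF0 : 5 / 7 < F.F0) (hspec : F.LocalSpec p S)
    (d : Five p F.u F.O S (F.R p)) {r s : G} (hr : r ∈ F.R p) (hs : s ∈ F.R p)
    (hru : F.u * r * F.u⁻¹ = r⁻¹) (hsu : F.u * s * F.u⁻¹ = s⁻¹) (hrs : r * s ≠ s * r)
    (P : Subgroup G) (hPR : P ≤ F.R p) (hPab : ∀ a ∈ P, ∀ b ∈ P, a * b = b * a) (hPp : ∀ a ∈ P, a ^ p = 1)
    (hPO : F.O ≤ normalizer (P : Set G)) (hPu : F.u ∈ normalizer (P : Set G)) :
    ∀ a ∈ P, F.u * a = a * F.u → a = 1 := by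
  classical
  intro a₀ ha₀ ha₀u
  by_contra ha₀1
  haveI : Fact p.Prime := ⟨d.hp⟩
  have hPS : P ≤ S := hPR.trans d.hRS
  have hPO' : P ≤ F.O := hPS.trans d.hSO
  have hRO : F.R p ≤ F.O := d.hRS.trans d.hSO
  have hA : ∀ a ∈ P, F.u * a = a * F.u → a ≠ 1 → a * r = r * a → a * s = s * a → False :=
    fun a ha hau ha1 hra hsa => hrs (d.comm_of_fixed (hPS ha) hau ha1 (d.hRS hr) hra hru (d.hRS hs) hsa hsu)
  -- the part of `P` central in `R`
  set Z := P ⊓ centralizer (F.R p : Set G)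
  haveI : (P.subgroupOf (F.R p)).Normal := normal_subgroupOf_of_le_normalizer (hRO.trans hPO)
  obtain ⟨w, hwP, hwc, hwo⟩ := Cfsg.Lib.PGroups.exists_mem_center_of_normal_ne_bot (d.hS.to_le d.hRS)
    (N := P.subgroupOf (F.R p)) (fun h => ha₀1 (by
      have h1 : (⟨a₀, hPR ha₀⟩ : F.R p) ∈ P.subgroupOf (F.R p) := mem_subgroupOf.2 ha₀
      rw [h, mem_bot, Subtype.ext_iff] at h1
      exact h1))
  set z := (w : G) with hz
  have hzZ : z ∈ Z := ⟨hwP, mem_centralizer_iff.2 fun x hx => congrArg Subtype.val (mem_center_iff.1 hwc ⟨x, hx⟩)⟩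
  have hzp : z ^ p = 1 := hPp z hwP
  have hz1 : z ≠ 1 := fun h => by
    rw [show w = 1 from Subtype.ext h, orderOf_one] at hwo
    exact d.hp.one_lt.ne hwo
  have hZn : ∀ g : G, g ∈ normalizer (P : Set G) → g ∈ normalizer (F.R p : Set G) → g ∈ normalizer (Z : Set G) :=
    fun g hg hg' => inf_normalizer_le_normalizer_inf
      ⟨hg, Cfsg.Lib.Thompson.normalizer_le_normalizer_centralizer _ hg'⟩
  have hzc : ∀ x ∈ F.R p, x * z = z * x := fun x hx => mem_centralizer_iff.1 hzZ.2 x hx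
  have hzu : F.u * z * F.u⁻¹ = z⁻¹ := Invol.inverts d.hu (hZn _ hPu d.huR) (fun x hx hxu => by
    by_contra hx1
    exact hA x hx.1 hxu hx1 (mem_centralizer_iff.1 hx.2 r hr).symm (mem_centralizer_iff.1 hx.2 s hs).symm) z hzZ
  have hinv : ∀ x ∈ P, F.u * x * F.u⁻¹ = x⁻¹ → x ∈ zpowers z := fun x hx hxu =>
    d.mem_zpowers (hPS ha₀) ha₀u ha₀1 (hPS hwP) (hPab _ ha₀ _ hwP) hzu hzp hz1 (hPS hx) (hPab _ ha₀ _ hx) hxu
      (hPp x hx)
  have hdiff : ∀ v ∈ P, v⁻¹ * (F.u * v * F.u⁻¹) ∈ zpowers z := fun v hv =>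
    hinv _ (P.mul_mem (P.inv_mem hv) ((mem_normalizer_iff.1 hPu v).1 hv)) (Invol.inverted_div d.hu v)
  have hzZ' : Z = zpowers z := by
    refine le_antisymm (fun x hx => hinv x hx.1 (Invol.inverts d.hu (hZn _ hPu d.huR) (fun x hx hxu => by
      by_contra hx1
      exact hA x hx.1 hxu hx1 (mem_centralizer_iff.1 hx.2 r hr).symm (mem_centralizer_iff.1 hx.2 s hs).symm) x hx))
      (zpowers_le.2 hzZ)
  have hzn : F.O ≤ normalizer ((zpowers z : Subgroup G) : Set G) :=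
    hzZ' ▸ fun g hg => hZn g (hPO hg) (d.hOR hg)
  -- commutators of inverted elements with fixed elements of `P`
  have hcom : ∀ x ∈ F.R p, F.u * x * F.u⁻¹ = x⁻¹ → ∀ a ∈ P, F.u * a = a * F.u →
      x * a * x⁻¹ * a⁻¹ ∈ zpowers z := fun x hx hxu a ha hau =>
    fixed_mod hzn hPO hdiff (hRO hx) hxu ha (mul_inv_eq_iff_eq_mul.2 hau)
  have hsame : ∀ x ∈ F.R p, ∀ a ∈ P, ∀ b ∈ P, x * a * x⁻¹ * a⁻¹ = x * b * x⁻¹ * b⁻¹ →
      (a⁻¹ * b) * x = x * (a⁻¹ * b) := by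
    intro x hx a ha b hb h
    have hxa : x * a * x⁻¹ ∈ P := (mem_normalizer_iff.1 (hPO (hRO hx)) a).1 ha
    have h1 : x * b * x⁻¹ = x * a * x⁻¹ * a⁻¹ * b := by rw [h, inv_mul_cancel_right]
    have h2 : x * (a⁻¹ * b) * x⁻¹ = a⁻¹ * b := by
      calc x * (a⁻¹ * b) * x⁻¹ = (x * a * x⁻¹)⁻¹ * (x * b * x⁻¹) := by group
        _ = a⁻¹ * b := by rw [h1]; group
    exact (mul_inv_eq_iff_eq_mul.1 h2).symm
  set Pf : Subgroup G := P ⊓ centralizer ({F.u} : Set G) with hPf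
  have hPfu : ∀ x ∈ Pf, F.u * x = x * F.u := fun x hx => (mem_centralizer_singleton_iff.1 hx.2).symm
  have hPf1 : ∀ x ∈ Pf, ∀ y ∈ Pf, (x⁻¹ * y) * r = r * (x⁻¹ * y) → (x⁻¹ * y) * s = s * (x⁻¹ * y) → x = y := by
    intro x hx y hy h1 h2
    by_contra hne
    exact hA _ (P.mul_mem (P.inv_mem hx.1) hy.1) (hPfu _ (Pf.mul_mem (Pf.inv_mem hx) hy))
      (fun e => hne (inv_mul_eq_one.1 e)) h1 h2
  have hzcard : Nat.card (zpowers z) = p := by rw [Nat.card_zpowers, orderOf_eq_prime hzp hz1]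
  -- everything for one fixed element
  have main : ∀ a ∈ P, F.u * a = a * F.u → a ≠ 1 → ∀ n : ℕ,
      (∀ T Q N o e : ℕ, ∀ F0 : ℚ, 5 / 7 < F0 → 0 < e → 3 ≤ T → (4 * T - 1) * (2 * T - 1) ≤ Q → p ≤ T →
        (∀ x ∈ F.R p, F.u * x * F.u⁻¹ = x⁻¹ → a * x = x * a → z ∈ zpowers x → orderOf x ≤ T) →
        n * Q ≤ N → (N : ℚ) * F0 * Q * e ^ 2 = 8 * T ^ 2 * o ^ 3 → o = p * e → e = (orb F.W a).ncard → False) →
      ∀ B : Set G, B ⊆ orb F.W a → (∀ b ∈ B, b ∈ zpowers a) → n ≤ B.ncard * (p - 1) → False := by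
    intro a ha hau ha1 n hfin B hB hBa hn
    have haW : a ∈ F.W := F.mem_W.2 ⟨hPO' ha, hau.symm⟩
    have cfg : Cfg F p S a z := ⟨d.hp, d.hp2, d.hSO, d.hS, hspec, hPS ha, mul_inv_eq_iff_eq_mul.2 hau, ha1,
      hPS hwP, hzu, hzp, hz1, hPab _ ha _ hwP⟩
    obtain ⟨T, Q, hT, hpT, hQ, hord, hX, hid⟩ := cfg.count hm htop
    have horbW : ∀ b ∈ orb F.W a, b ∈ P ∧ b ∈ F.O ∧ F.u * b * F.u⁻¹ = b := by
      rintro _ ⟨g, hg, rfl⟩
      refine ⟨(mem_normalizer_iff.1 (hPO (F.W_le hg)) a).1 ha,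
        F.O.mul_mem (F.O.mul_mem (F.W_le hg) (hPO' ha)) (F.O.inv_mem (F.W_le hg)), ?_⟩
      calc F.u * (g * a * g⁻¹) * F.u⁻¹ = (F.u * g * F.u⁻¹) * (F.u * a * F.u⁻¹) * (F.u * g * F.u⁻¹)⁻¹ := by group
        _ = _ := by rw [mul_inv_eq_iff_eq_mul.2 (F.mem_W.1 hg).2.symm, cfg.a_fixed]
    have hzmem : ∀ x ∈ zpowers z, x ∈ F.O ∧ F.u * x * F.u⁻¹ = x⁻¹ := by
      intro x hx
      obtain ⟨k, rfl⟩ := mem_zpowers_iff.1 hx
      exact ⟨F.O.zpow_mem cfg.z_O k, Invol.inverted_zpow hzu k⟩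
    have hmul_inj : ∀ b ∈ orb F.W a, ∀ b' ∈ orb F.W a, ∀ x ∈ zpowers z, ∀ x' ∈ zpowers z,
        b * x = b' * x' → b = b' ∧ x = x' := fun b hb b' hb' x hx x' hx' h => by
      refine fixed_mul_inverted_inj (hzmem x hx).1 (hzmem x' hx').1 (horbW b hb).2.1 (horbW b' hb').2.1
        (horbW b hb).2.2 (horbW b' hb').2.2 (hzmem x hx).2 (hzmem x' hx').2 ?_ h
      obtain ⟨i, rfl⟩ := mem_zpowers_iff.1 hx
      obtain ⟨j, rfl⟩ := mem_zpowers_iff.1 hx'
      rw [← zpow_add, ← zpow_add, add_comm]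
    -- an element moving `a` along `z`
    obtain ⟨m, hm', hmu, hma⟩ : ∃ m ∈ F.R p, F.u * m * F.u⁻¹ = m⁻¹ ∧ a * m ≠ m * a := by
      by_contra hno
      push Not at hno
      exact hA a ha hau ha1 (hno r hr hru) (hno s hs hsu)
    set c := m * a * m⁻¹ * a⁻¹ with hc
    have hcz : c ∈ zpowers z := hcom m hm' hmu a ha hau
    have hc1 : c ≠ 1 := fun h => hma (by
      rw [hc, mul_inv_eq_one, mul_inv_eq_iff_eq_mul] at h
      exact h.symm)
    have hzcc : ∀ x ∈ zpowers z, ∀ y ∈ F.R p, Commute y x := fun x hx y hy => by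
      obtain ⟨k, rfl⟩ := mem_zpowers_iff.1 hx
      exact (show Commute y z from hzc y hy).zpow_right k
    have hza : ∀ x ∈ zpowers z, a * x ∈ orb F.O a := by
      intro x hx
      obtain ⟨k, rfl⟩ : ∃ k : ℕ, c ^ k = x :=
        mem_powers_iff_mem_zpowers.2 (Invol.mem_zpowers_of_cyclic d.hp hx hcz
          (by obtain ⟨j, hj⟩ := mem_zpowers_iff.1 hx
              rw [← hj, ← zpow_natCast, zpow_comm, zpow_natCast, hzp, one_zpow])
          (by obtain ⟨j, hj⟩ := mem_zpowers_iff.1 hcz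
              rw [← hj, ← zpow_natCast, zpow_comm, zpow_natCast, hzp, one_zpow]) hc1)
      refine ⟨m ^ k, F.O.pow_mem (hRO hm') k, ?_⟩
      show m ^ k * a * (m ^ k)⁻¹ = a * c ^ k
      have hca : Commute c a := (hzcc c hcz a (hPR ha)).symm
      have hcm : Commute c m := (hzcc c hcz m hm').symm
      have hma' : m * a * m⁻¹ = a * c := by rw [← hca.eq, hc, inv_mul_cancel_right]
      clear hx
      induction k with
      | zero => simp
      | succ i ih =>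
        calc m ^ (i + 1) * a * (m ^ (i + 1))⁻¹ = m * (m ^ i * a * (m ^ i)⁻¹) * m⁻¹ := by rw [pow_succ']; group
          _ = (m * a * m⁻¹) * (m * c ^ i * m⁻¹) := by rw [ih]; group
          _ = a * c * c ^ i := by rw [hma', ← (hcm.pow_left i).eq, mul_inv_cancel_right]
          _ = _ := by rw [mul_assoc, ← pow_succ']
    have hmemO : ∀ b ∈ orb F.W a, ∀ x ∈ zpowers z, b * x ∈ orb F.O a := by
      rintro _ ⟨g, hg, rfl⟩ x hx
      have hx' : g⁻¹ * x * g ∈ zpowers z :=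
        (mem_normalizer_iff''.1 (hzn (F.W_le hg)) x).1 hx
      obtain ⟨k, hk, hke⟩ := hza _ hx'
      refine ⟨g * k, F.O.mul_mem (F.W_le hg) hk, ?_⟩
      show g * k * a * (g * k)⁻¹ = _
      calc g * k * a * (g * k)⁻¹ = g * (k * a * k⁻¹) * g⁻¹ := by group
        _ = g * (a * (g⁻¹ * x * g)) * g⁻¹ := by rw [show k * a * k⁻¹ = _ from hke]
        _ = _ := by group
    have horb : orb F.O a = (fun q : G × G => q.1 * q.2) '' (orb F.W a ×ˢ (zpowers z : Set G)) := by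
      apply subset_antisymm
      · rintro _ ⟨g, hg, rfl⟩
        obtain ⟨v, hv, i, hi, hvu, hiu, rfl⟩ :=
          Invol.decomp F.u_sq F.odd_card_O (F.U_le_normalizer_O F.u_mem_U) hg
        have h1 := fixed_mod hzn hPO hdiff hi hiu ha cfg.a_fixed
        refine ⟨(v * a * v⁻¹, (v * a * v⁻¹)⁻¹ * (v * i * a * (v * i)⁻¹)),
          ⟨⟨v, F.mem_W.2 ⟨hv, hvu.symm⟩, rfl⟩, ?_⟩, by group⟩
        have h2 := (mem_normalizer_iff.1 (hzn hv) _).1 ((zpowers z).mul_mem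
          ((zpowers z).one_mem) h1)
        rw [one_mul] at h2
        show _ ∈ zpowers z
        have h3 : i * a * i⁻¹ * a⁻¹ = a⁻¹ * (i * a * i⁻¹) := by
          have := hPab _ ((mem_normalizer_iff.1 (hPO hi) a).1 ha) _ (P.inv_mem ha)
          exact this
        rwa [h3, show v * (a⁻¹ * (i * a * i⁻¹)) * v⁻¹ = (v * a * v⁻¹)⁻¹ * (v * i * a * (v * i)⁻¹) by group] at h2
      · rintro _ ⟨⟨b, x⟩, ⟨hb, hx⟩, rfl⟩
        exact hmemO b hb x hx
    have ho : (orb F.O a).ncard = p * (orb F.W a).ncard := by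
      rw [horb, Set.ncard_image_of_injOn, Set.ncard_prod, mul_comm, ← Nat.card_coe_set_eq,
        show Nat.card ↥(zpowers z : Set G) = p from hzcard]
      rintro ⟨b, x⟩ ⟨hb, hx⟩ ⟨b', x'⟩ ⟨hb', hx'⟩ h
      obtain ⟨rfl, rfl⟩ := hmul_inj b hb b' hb' x hx x' hx' h
      rfl
    have hXn : (B.ncard * (p - 1)) = ((fun q : G × G => q.1 * q.2) '' (B ×ˢ ((zpowers z : Set G) \ {1}))).ncard := by
      rw [Set.ncard_image_of_injOn, Set.ncard_prod, Set.ncard_sdiff_singleton_of_mem (one_mem (zpowers z)),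
        ← Nat.card_coe_set_eq, ← Nat.card_coe_set_eq (zpowers z : Set G)]
      · rw [show Nat.card ↥(zpowers z : Set G) = p from hzcard]
      · rintro ⟨b, x⟩ ⟨hb, hx⟩ ⟨b', x'⟩ ⟨hb', hx'⟩ h
        obtain ⟨rfl, rfl⟩ := hmul_inj b (hB hb) b' (hB hb') x hx.1 x' hx'.1 h
        rfl
    have hcount := hX ((fun q : G × G => q.1 * q.2) '' (B ×ˢ ((zpowers z : Set G) \ {1})))
      (by
        rintro _ ⟨⟨b, x⟩, ⟨hb, hx⟩, rfl⟩
        obtain ⟨k, -, hk⟩ := hmemO b (hB hb) x hx.1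
        exact ⟨k, mem_top _, hk⟩)
      (by
        rintro _ ⟨⟨b, x⟩, ⟨hb, hx⟩, rfl⟩
        obtain ⟨i, rfl⟩ := mem_zpowers_iff.1 (hBa b hb)
        obtain ⟨j, rfl⟩ := mem_zpowers_iff.1 hx.1
        exact ⟨i, j, rfl, hx.2⟩)
    rw [← hXn] at hcount
    exact hfin T Q _ _ _ F.F0 hF0 ((Set.ncard_pos (Set.toFinite (orb F.W a))).2 ⟨_, 1, one_mem _, rfl⟩) hT hQ hpT
      (fun x hx hxu hax hzx => hord x (d.hRS hx) hxu hax hzx)
      ((Nat.mul_le_mul_right Q hn).trans hcount) hid ho rfl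
  by_cases hker : ∀ x ∈ Pf, x * r = r * x → x = 1
  · -- the fixed points form a group of order `p`
    have hinj : ∀ x ∈ Pf, ∀ y ∈ Pf, r * x * r⁻¹ * x⁻¹ = r * y * r⁻¹ * y⁻¹ → x = y := fun x hx y hy h =>
      inv_mul_eq_one.1 (hker _ (Pf.mul_mem (Pf.inv_mem hx) hy) (hsame r hr x hx.1 y hy.1 h))
    have hcard : Nat.card Pf ≤ p := by
      rw [← hzcard]
      refine Nat.card_le_card_of_injective (fun x : Pf => (⟨r * x * r⁻¹ * (x : G)⁻¹,
        hcom r hr hru x x.2.1 (hPfu x x.2)⟩ : zpowers z)) fun x y h => ?_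
      exact Subtype.ext (hinj x x.2 y y.2 (congrArg Subtype.val h))
    have haPf : a₀ ∈ Pf := ⟨ha₀, mem_centralizer_singleton_iff.2 ha₀u.symm⟩
    have hPfa : zpowers a₀ = Pf := eq_of_le_of_card_ge (zpowers_le.2 haPf)
      (by rw [Nat.card_zpowers, orderOf_eq_prime (hPp a₀ ha₀) ha₀1]; exact hcard)
    refine main a₀ ha₀ ha₀u ha₀1 ((p - 1) * (orb F.W a₀).ncard) ?_ _ subset_rfl (fun b hb => ?_)
      (by rw [mul_comm])
    · intro T Q N o e F0 hF he hT hQ hpT _ hn hid ho hee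
      exact false_lines (n := (p - 1) * (orb F.W a₀).ncard) hF he hT hQ d.hp.two_le le_rfl hpT (by rw [hee])
        hn hid ho
    · rw [hPfa]
      obtain ⟨g, hg, rfl⟩ := hb
      refine ⟨(mem_normalizer_iff.1 (hPO (F.W_le hg)) a₀).1 ha₀, ?_⟩
      have h1 : Commute g F.u := (F.mem_W.1 hg).2
      exact mem_centralizer_singleton_iff.2 (((h1.mul_left ha₀u.symm).mul_left h1.inv_left).eq)
  · push Not at hker
    obtain ⟨a, haPf, har, ha1⟩ := hker
    have hrz : r ∉ zpowers z := fun h => hrs (by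
      obtain ⟨k, rfl⟩ := mem_zpowers_iff.1 h
      exact ((show Commute s z from hzc s hs).zpow_right k).eq.symm)
    obtain ⟨n, hn⟩ := d.hS ⟨r, d.hRS hr⟩
    have hn' : r ^ p ^ n = 1 := congrArg Subtype.val hn
    obtain ⟨k, -, hk⟩ := (Nat.dvd_prime_pow d.hp).1 (orderOf_dvd_of_pow_eq_one hn')
    have hk2 : 2 ≤ k := by
      by_contra hlt
      refine hrz (d.mem_zpowers (hPS haPf.1) (hPfu a haPf) ha1 (hPS hwP) (hPab _ haPf.1 _ hwP) hzu hzp hz1
        (d.hRS hr) har hru ?_)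
      rcases Nat.lt_succ_iff.1 (Nat.not_le.1 hlt) |>.eq_or_lt with rfl | h0
      · rw [← pow_one p, ← hk, pow_orderOf_eq_one]
      · have : k = 0 := by omega
        rw [this, pow_zero, orderOf_eq_one_iff] at hk
        rw [hk, one_pow]
    have hzr : z ∈ zpowers r := by
      have hyp : (r ^ p ^ (k - 1)) ^ p = 1 := by
        rw [← pow_mul, ← pow_succ, show k - 1 + 1 = k by omega, ← hk, pow_orderOf_eq_one]
      have hy1 : r ^ p ^ (k - 1) ≠ 1 := fun h => by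
        have h2 := orderOf_dvd_of_pow_eq_one h
        rw [hk] at h2
        exact absurd ((Nat.pow_dvd_pow_iff_le_right d.hp.one_lt).1 h2) (by omega)
      have h3 := d.mem_zpowers (hPS haPf.1) (hPfu a haPf) ha1 (hPS hwP) (hPab _ haPf.1 _ hwP) hzu hzp hz1
        (S.pow_mem (d.hRS hr) _) ((show Commute a r from har).pow_right _).eq (Invol.inverted_pow hru _) hyp
      obtain ⟨j, hj⟩ := mem_zpowers_iff.1 (Invol.mem_zpowers_of_cyclic d.hp (mem_zpowers z) h3 hzp hyp hy1)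
      exact mem_zpowers_iff.2 ⟨(p ^ (k - 1) : ℕ) * j, by rw [zpow_mul, zpow_natCast, hj]⟩
    have hcard : Nat.card Pf ≤ p ^ 2 := by
      have h := Nat.card_le_card_of_injective (fun x : Pf => ((⟨r * x * r⁻¹ * (x : G)⁻¹,
        hcom r hr hru x x.2.1 (hPfu x x.2)⟩ : zpowers z), (⟨s * x * s⁻¹ * (x : G)⁻¹,
        hcom s hs hsu x x.2.1 (hPfu x x.2)⟩ : zpowers z))) (fun x y h => Subtype.ext (hPf1 x x.2 y y.2
          (hsame r hr x x.2.1 y y.2.1 (congrArg (fun q => (q.1 : G)) h))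
          (hsame s hs x x.2.1 y y.2.1 (congrArg (fun q => (q.2 : G)) h))))
      rw [Nat.card_prod, hzcard, ← pow_two] at h
      exact h
    refine main a haPf.1 (hPfu a haPf) ha1 (p - 1) ?_ {a} ?_ ?_ (by rw [Set.ncard_singleton, one_mul])
    · intro T Q N o e F0 hF he hT hQ hpT hord hn hid ho hee
      have he2 : e ≤ p ^ 2 := by
        rw [hee]
        refine le_trans (Set.ncard_le_ncard ?_ (Set.toFinite (Pf : Set G))) ((Nat.card_coe_set_eq _).ge.trans hcard)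
        rintro _ ⟨g, hg, rfl⟩
        refine ⟨(mem_normalizer_iff.1 (hPO (F.W_le hg)) a).1 haPf.1, ?_⟩
        have h1 : Commute g F.u := (F.mem_W.1 hg).2
        exact mem_centralizer_singleton_iff.2 (((h1.mul_left (hPfu a haPf).symm).mul_left h1.inv_left).eq)
      refine false_plane hF he hT hQ (by have := d.hp.two_le; have := d.hp2; omega) he2 ?_ le_rfl hn hid ho
      refine le_trans ?_ (hord r hr hru har hzr)
      rw [hk]
      exact Nat.pow_le_pow_right d.hp.pos hk2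
    · exact Set.singleton_subset_iff.2 ⟨1, one_mem _, by group⟩
    · intro b hb
      rw [Set.mem_singleton_iff.1 hb]
      exact mem_zpowers a

end Cfsg.Lib.GW.Mixed
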