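import Cfsg.Agent.FourGroupGW.Mixed.Config
import Cfsg.Agent.FourGroupGW.Mixed.Critical

/-!
Four-group theorem, piece F: the moved Sylow subgroup over `O_p(O)` and the elements fixed modulo `⟨z⟩`.
-/

set_option autoImplicit false
set_option linter.unusedSectionVars false
set_option linter.style.haveILetI false

namespace Cfsg.Lib.GW.Mixed

open Subgroup

universe u

variable {G : Type u} [Group G] [Finite G] {F : Frame G} {p : ℕ}

theorem C_le_normalizer_R (p : ℕ) : F.C ≤ normalizer (F.R p : Set G) := by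
  haveI : (Cfsg.pCore p F.O).Characteristic := Cfsg.Lib.Components.pCore_characteristic
  intro g hg
  have hgO := F.C_le_normalizer_O hg
  rw [mem_normalizer_iff_map_conj_eq]
  refine Subgroup.eq_of_le_of_card_ge ?_ (card_map_of_injective (MulAut.conj g).injective).ge
  rintro _ ⟨_, ⟨x, hx, rfl⟩, rfl⟩
  exact ⟨_, (characteristic_iff_map_eq.1 (inferInstance : (Cfsg.pCore p F.O).Characteristic)
    (Cfsg.Lib.GenDihedral.cj F.O g hgO)).le (mem_map_of_mem _ hx), rfl⟩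

theorem O_le_normalizer_R (p : ℕ) : F.O ≤ normalizer (F.R p : Set G) := F.O_le.trans (C_le_normalizer_R p)

theorem u_mem_normalizer_R (p : ℕ) : F.u ∈ normalizer (F.R p : Set G) := C_le_normalizer_R p (F.U_le_C F.u_mem_U)

theorem ne_two (hp : p.Prime) {x : G} (hx : x ∈ F.O) (hxp : x ^ p = 1) (hx1 : x ≠ 1) : p ≠ 2 := by
  haveI : Fact p.Prime := ⟨hp⟩
  rintro rfl
  have h := Frame.odd_orderOf F.odd_card_O hx
  rw [orderOf_eq_prime hxp hx1] at h
  exact absurd h (by decide)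

theorem exists_order_p (hp : p.Prime) {K : Subgroup G} (hK : IsPGroup p K) (hne : K ≠ ⊥) :
    ∃ x ∈ K, x ^ p = 1 ∧ x ≠ 1 := by
  haveI : Fact p.Prime := ⟨hp⟩
  haveI : Nontrivial K := (nontrivial_iff_ne_bot _).mpr hne
  obtain ⟨x, hx⟩ := exists_prime_orderOf_dvd_card' (G := K) p (hK.card_eq_or_dvd.resolve_left Finite.one_lt_card.ne')
  refine ⟨x, x.2, ?_, fun h => ?_⟩
  · rw [← hx, ← Subgroup.orderOf_coe, pow_orderOf_eq_one]
  · rw [show x = 1 from Subtype.ext h, orderOf_one] at hx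
    exact hp.one_lt.ne hx

/-- the moved Sylow subgroup, its local facts and the data of section 5 -/
theorem exists_five (hloc : F.Local) (hC : IsCoatom F.C) (hp : p.Prime) {r : G} (hr : r ∈ F.R p)
    (hru : F.u * r * F.u⁻¹ ≠ r) :
    ∃ S : Subgroup G, F.LocalSpec p S ∧ Five p F.u F.O S (F.R p) := by
  haveI : Fact p.Prime := ⟨hp⟩
  haveI : Fact (Nat.Prime 2) := ⟨Nat.prime_two⟩
  have hRne : F.R p ≠ ⊥ := fun h => hru (by
    have h1 : r = 1 := mem_bot.1 (h ▸ hr)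
    rw [h1]; group)
  obtain ⟨P, hP⟩ := Cfsg.Lib.Coprime.exists_invariant_sylow F.U_le_normalizer_O (F.coprime_U F.odd_card_O)
    (Or.inl (by haveI := F.isPGroup_U.isNilpotent; infer_instance)) p
  set S := (P : Subgroup F.O).map F.O.subtype
  have hRS : F.R p ≤ S := map_mono (Cfsg.Lib.Coprime.pCore_le_sylow p P)
  have hmv : F.MovedSylow p S := {
    le := map_subtype_le _
    pgroup := P.2.map _
    sylow := by
      rw [relIndex, subgroupOf, comap_map_eq_self_of_injective F.O.subtype_injective]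
      exact P.not_dvd_index
    norm := hP
    moved := ⟨r, hRS hr, hru⟩ }
  have hspec := hloc hC p S hp hRne hmv
  refine ⟨S, hspec, hp, ?_, F.u_sq, F.odd_card_O, F.U_le_normalizer_O F.u_mem_U, hmv.pgroup, hmv.le, hRS,
    O_le_normalizer_R p, u_mem_normalizer_R p, fun a ha hau ha1 => ?_⟩
  · obtain ⟨x, hx, hxp, hx1⟩ := exists_order_p hp (hmv.pgroup.to_le hRS) hRne
    exact ne_two hp (hmv.le (hRS hx)) hxp hx1
  · obtain ⟨g, -, -, hg⟩ := hspec.inverted_cyclic (zpowers a)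
      (zpowers_le.2 (F.mem_W.2 ⟨hmv.le ha, hau.symm⟩)) (zpowers_le.2 ha) (by rwa [Ne, zpowers_eq_bot])
    refine ⟨g, fun x hx hax hxu => hg x ⟨hx, mem_centralizer_iff.2 ?_⟩ hxu⟩
    intro y hy
    obtain ⟨k, rfl⟩ := mem_zpowers_iff.1 hy
    exact ((show Commute a x from hax).zpow_left k).eq

/-- modulo a normal `⟨z⟩` containing their inverted parts, the elements of `O` keep the fixed part -/
theorem fixed_mod {P : Subgroup G} {z : G} (hzn : F.O ≤ normalizer ((zpowers z : Subgroup G) : Set G))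
    (hPn : F.O ≤ normalizer (P : Set G))
    (hdiff : ∀ v ∈ P, v⁻¹ * (F.u * v * F.u⁻¹) ∈ zpowers z) {i : G} (hi : i ∈ F.O) (hiu : F.u * i * F.u⁻¹ = i⁻¹)
    {a : G} (ha : a ∈ P) (hau : F.u * a * F.u⁻¹ = a) : i * a * i⁻¹ * a⁻¹ ∈ zpowers z := by
  have hconj : ∀ g ∈ F.O, ∀ x ∈ zpowers z, g * x * g⁻¹ ∈ zpowers z := fun g hg x hx =>
    (mem_normalizer_iff.1 (hzn hg) x).1 hx
  have hsq : ∀ b ∈ P, F.u * b * F.u⁻¹ = b → i * i * b * (i * i)⁻¹ * b⁻¹ ∈ zpowers z := by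
    intro b hb hbu
    have h1 := hdiff _ ((mem_normalizer_iff.1 (hPn hi) b⁻¹).1 (P.inv_mem hb))
    have h2 : F.u * (i * b⁻¹ * i⁻¹) * F.u⁻¹ = i⁻¹ * b⁻¹ * i := by
      calc F.u * (i * b⁻¹ * i⁻¹) * F.u⁻¹ = (F.u * i * F.u⁻¹) * (F.u * b * F.u⁻¹)⁻¹ * (F.u * i * F.u⁻¹)⁻¹ := by group
        _ = _ := by rw [hiu, hbu, inv_inv]
    rw [h2] at h1
    have h3 := hconj i hi _ h1
    rwa [show i * ((i * b⁻¹ * i⁻¹)⁻¹ * (i⁻¹ * b⁻¹ * i)) * i⁻¹ = i * i * b * (i * i)⁻¹ * b⁻¹ by group] at h3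
  obtain ⟨n, hn⟩ := Frame.odd_orderOf F.odd_card_O hi
  have hpow : ∀ m : ℕ, (i * i) ^ m * a * ((i * i) ^ m)⁻¹ * a⁻¹ ∈ zpowers z := by
    intro m
    induction m with
    | zero => simp [one_mem]
    | succ m ih =>
      have h4 := (zpowers z).mul_mem (hconj _ (F.O.mul_mem hi hi) _ ih) (hsq a ha hau)
      have e : ∀ j k : G, j * (k * a * k⁻¹ * a⁻¹) * j⁻¹ * (j * a * j⁻¹ * a⁻¹) = j * k * a * (j * k)⁻¹ * a⁻¹ :=
        fun j k => by group
      rwa [e, ← pow_succ'] at h4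
  have hi2 : (i * i) ^ (n + 1) = i := by
    rw [← pow_two, ← pow_mul, show 2 * (n + 1) = orderOf i + 1 by omega, pow_succ, pow_orderOf_eq_one, one_mul]
  have h5 := hpow (n + 1)
  rwa [hi2] at h5

/-- a product of a fixed and an inverted element of odd order determines both -/
theorem fixed_mul_inverted_inj {b b' x x' : G} (hO : x ∈ F.O) (hO' : x' ∈ F.O) (hb : b ∈ F.O) (hb' : b' ∈ F.O)
    (hbu : F.u * b * F.u⁻¹ = b) (hbu' : F.u * b' * F.u⁻¹ = b') (hxu : F.u * x * F.u⁻¹ = x⁻¹)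
    (hxu' : F.u * x' * F.u⁻¹ = x'⁻¹) (hc : x * x' = x' * x) (h : b * x = b' * x') : b = b' ∧ x = x' := by
  have h1 : x' * x⁻¹ = b'⁻¹ * b := by
    calc x' * x⁻¹ = b'⁻¹ * (b' * x') * x⁻¹ := by group
      _ = b'⁻¹ * b := by rw [← h]; group
  have h2 : x' * x⁻¹ = 1 := by
    refine Frame.eq_one_of_fixed_inverted (s := F.u) (Frame.odd_orderOf F.odd_card_O (F.O.mul_mem hO' (F.O.inv_mem hO)))
      ?_ ?_
    · rw [h1, ← conj_mul, ← conj_inv, hbu, hbu']
    · rw [← conj_mul, ← conj_inv, hxu, hxu', inv_inv, mul_inv_rev, inv_inv]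
      exact ((show Commute x x' from hc).inv_right).eq.symm
  obtain rfl := mul_inv_eq_one.1 h2
  exact ⟨mul_right_cancel h, rfl⟩

/-- the elements of a conjugacy class fixed by `u` form one class under `W` -/
theorem fixed_of_orbit {a x : G} (haW : a ∈ F.W) (hx : x ∈ orb F.O a)
    (hxu : F.u * x * F.u⁻¹ = x) : x ∈ orb F.W a := by
  obtain ⟨g, hg, rfl⟩ := hx
  obtain ⟨w, hw, i, hi, hwu, hiu, rfl⟩ :=
    Invol.decomp F.u_sq F.odd_card_O (F.U_le_normalizer_O F.u_mem_U) hg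
  have hau : F.u * a * F.u⁻¹ = a := mul_inv_eq_iff_eq_mul.2 (F.mem_W.1 haW).2.symm
  have hwu' : F.u * w * F.u⁻¹ = w := mul_inv_eq_iff_eq_mul.2 hwu
  have h1 : F.u * (w * i * a * (w * i)⁻¹) * F.u⁻¹ = w * (i⁻¹ * a * i) * w⁻¹ := by
    calc F.u * (w * i * a * (w * i)⁻¹) * F.u⁻¹ = (F.u * w * F.u⁻¹) * ((F.u * i * F.u⁻¹) * (F.u * a * F.u⁻¹) *
          (F.u * i * F.u⁻¹)⁻¹) * (F.u * w * F.u⁻¹)⁻¹ := by group
      _ = _ := by rw [hwu', hiu, hau, inv_inv]
  rw [h1] at hxu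
  have h2 : Commute (i * i) a := by
    calc i * i * a = i * (w⁻¹ * (w * i * a * (w * i)⁻¹) * w) * i := by group
      _ = i * (w⁻¹ * (w * (i⁻¹ * a * i) * w⁻¹) * w) * i := by rw [hxu]
      _ = a * (i * i) := by group
  obtain ⟨n, hn⟩ := Frame.odd_orderOf F.odd_card_O hi
  have h3 : Commute i a := by
    have h4 : i = (i * i) ^ (n + 1) := by
      rw [← pow_two, ← pow_mul, show 2 * (n + 1) = orderOf i + 1 by omega, pow_succ, pow_orderOf_eq_one, one_mul]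
    rw [h4]
    exact h2.pow_left _
  refine ⟨w, F.mem_W.2 ⟨hw, hwu.symm⟩, ?_⟩
  show w * a * w⁻¹ = _
  calc w * a * w⁻¹ = w * (a * i) * i⁻¹ * w⁻¹ := by group
    _ = w * i * a * (w * i)⁻¹ := by rw [← h3.eq]; group

end Cfsg.Lib.GW.Mixed
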